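/-
Unitary matrices and the generators of the normaliser of `3^(1+4)` in `SU(9, p)`.
-/
import Cfsg.Agent.Lib.MaxSub.SLNine.Main
import Cfsg.Agent.Lib.MaxSub.SU3Max.Hess.Iso

set_option autoImplicit false
set_option maxHeartbeats 800000
set_option linter.unusedSectionVars false

namespace CfsgLib.MaxSub.SUNine

open Matrix CfsgLib.UnitaryTransvection
open CfsgLib.MaxSub.SLThree.Hess (Root Xm Ym Fm Gm sX sY sF sG)
open CfsgLib.MaxSub.SLNine
open CfsgLib.MaxSub.TensorPow
open CfsgLib.Aschbacher (permGL permMat)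

variable {F : Type*} [Field F] {ω : F}

local notation "G3" => GL (Fin 3) F
local notation "GT" => GL (Fin 2 → Fin 3) F
local notation "Mn" => Matrix (Fin 3) (Fin 3) F
local notation "MT" => Matrix (Fin 2 → Fin 3) (Fin 2 → Fin 3) F
local notation "SL" => Matrix.SpecialLinearGroup (Fin 3) F

/-! ### Matrices preserving the standard hermitian form -/

/-- The unitary group of an orthonormal basis. -/
def UG (σ : F →+* F) (ι : Type) [Fintype ι] [DecidableEq ι] : Subgroup (GL ι F) where
  carrier := {g | g.valᵀ * g.val.map σ = 1}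
  one_mem' := by simp
  mul_mem' := by
    intro a b ha hb
    show (a * b).valᵀ * (a * b).val.map σ = 1
    rw [Units.val_mul, Matrix.transpose_mul, Matrix.map_mul, mul_assoc, ← mul_assoc a.valᵀ,
      show a.valᵀ * a.val.map σ = 1 from ha, one_mul]
    exact hb
  inv_mem' := by
    intro a ha
    show (a⁻¹ : GL ι F).valᵀ * (a⁻¹ : GL ι F).val.map σ = 1
    have h1 : (a⁻¹ : GL ι F).valᵀ * a.valᵀ = 1 := by rw [← Matrix.transpose_mul, Units.mul_inv, Matrix.transpose_one]
    have h2 : a.val.map σ * (a⁻¹ : GL ι F).val.map σ = 1 := by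
      rw [← Matrix.map_mul, Units.mul_inv, Matrix.map_one _ (map_zero σ) (map_one σ)]
    calc (a⁻¹ : GL ι F).valᵀ * (a⁻¹ : GL ι F).val.map σ
        = (a⁻¹ : GL ι F).valᵀ * (a.valᵀ * a.val.map σ) * (a⁻¹ : GL ι F).val.map σ := by
          rw [show a.valᵀ * a.val.map σ = 1 from ha, mul_one]
      _ = 1 := by rw [← mul_assoc, h1, one_mul, h2]

theorem mem_UG {σ : F →+* F} {ι : Type} [Fintype ι] [DecidableEq ι] {g : GL ι F} :
    g ∈ UG σ ι ↔ g.valᵀ * g.val.map σ = 1 := Iff.rfl

theorem UG_det {σ : F →+* F} {ι : Type} [Fintype ι] [DecidableEq ι] {g : GL ι F} (hg : g ∈ UG σ ι) :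
    g.val.det * σ g.val.det = 1 := by
  have := congrArg Matrix.det (mem_UG.1 hg)
  rwa [Matrix.det_mul, Matrix.det_transpose, Matrix.det_one,
    show (g.val.map σ).det = σ g.val.det from (RingHom.map_det σ g.val).symm] at this

/-- The columns are orthonormal. -/
theorem UG_cols {σ : F →+* F} {ι : Type} [Fintype ι] [DecidableEq ι] {g : GL ι F} (hg : g ∈ UG σ ι) (i j : ι) :
    ∑ k, g.val k i * σ (g.val k j) = if i = j then 1 else 0 := by
  have := congrFun (congrFun (mem_UG.1 hg) i) j
  simpa [Matrix.mul_apply, Matrix.one_apply] using this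

theorem fa_transpose (i : Fin 2) (M : Mn) : (fa i M : MT)ᵀ = fa i Mᵀ := by
  ext x y
  rw [Matrix.transpose_apply, fa_apply, fa_apply, Matrix.transpose_apply]
  simp only [eq_comm]

theorem fa_map (σ : F →+* F) (i : Fin 2) (M : Mn) : (fa i M : MT).map σ = fa i (M.map σ) := by
  ext x y
  rw [Matrix.map_apply, fa_apply, fa_apply, Matrix.map_apply]
  split_ifs
  · rfl
  · exact map_zero σ

theorem fu_UG {σ : F →+* F} {i : Fin 2} {A : G3} : fu i A ∈ UG σ (Fin 2 → Fin 3) ↔ A ∈ UG σ (Fin 3) := by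
  rw [mem_UG, mem_UG, fu_val, fa_transpose, fa_map, ← map_mul]
  constructor
  · intro e
    exact fa_injective i (by rw [e, map_one])
  · intro e
    rw [e, map_one]

theorem diag_UG {σ : F →+* F} {ι : Type} [Fintype ι] [DecidableEq ι] {d : ι → F} {g : GL ι F}
    (hg : g.val = Matrix.diagonal d) (hd : ∀ i, d i * σ (d i) = 1) : g ∈ UG σ ι := by
  rw [mem_UG, hg, Matrix.diagonal_transpose, Matrix.diagonal_map (map_zero σ), Matrix.diagonal_mul_diagonal,
    ← Matrix.diagonal_one]
  exact congrArg Matrix.diagonal (funext hd)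

variable [Fintype F] {q : ℕ} (hF : Fintype.card F = q ^ 2)

local notation "σ" => frob hF

include hF in
theorem mem_GU_iff {n : ℕ} {g : GL (Fin n) F} : g ∈ Cfsg.GU n F q ↔ g ∈ UG σ (Fin n) := by
  have key : ∀ x y : Fin n → F, Cfsg.hermForm n F q x y = x ⬝ᵥ (fun i => σ (y i)) := fun x y =>
    Finset.sum_congr rfl fun i _ => by simp only [frob_apply]
  constructor
  · intro hg
    ext i j
    have := hg (Pi.single i 1) (Pi.single j 1)
    rw [key, key] at this
    simp only [Units.coeHom_apply, Matrix.mulVec_single, MulOpposite.op_one, one_smul] at this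
    rw [Matrix.mul_apply, Matrix.one_apply]
    simpa [dotProduct, Pi.single_apply, eq_comm, apply_ite (frob hF)] using this
  · intro hg u v
    have hm : (fun i => σ ((g.val *ᵥ v) i)) = g.val.map σ *ᵥ fun i => σ (v i) := funext fun i =>
      RingHom.map_mulVec σ g.val v i
    show Cfsg.hermForm n F q (g.val *ᵥ u) (g.val *ᵥ v) = _
    rw [key, key, hm, dotProduct_comm, Matrix.dotProduct_mulVec, dotProduct_comm, ← Matrix.mulVec_transpose,
      Matrix.mulVec_mulVec, mem_UG.1 hg, Matrix.one_mulVec]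

/-! ### The generators -/

/-- The reflection of order three. -/
def rr (h : Root ω) : GL (Fin 3) F where
  val := Matrix.diagonal ![ω, 1, 1]
  inv := Matrix.diagonal ![ω * ω, 1, 1]
  val_inv := by
    rw [Matrix.diagonal_mul_diagonal, ← Matrix.diagonal_one]
    congr 1; funext i; fin_cases i <;> simp
    linear_combination h.cube
  inv_val := by
    rw [Matrix.diagonal_mul_diagonal, ← Matrix.diagonal_one]
    congr 1; funext i; fin_cases i <;> simp
    linear_combination h.cube

theorem rr_val (h : Root ω) : (rr h).val = Matrix.diagonal ![ω, 1, 1] := rfl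

theorem det_rr (h : Root ω) : (rr h).val.det = ω := by
  rw [rr_val, Matrix.det_diagonal, Fin.prod_univ_three]
  simp

variable {h : Root ω} (hq : q % 3 = 2)
include hq

theorem norm_root (h : Root ω) : ω * σ ω = 1 := by
  rw [SU3Max.Hess.frob_root hF h hq]
  linear_combination h.cube

theorem norm_root' (h : Root ω) : ω * ω * σ (ω * ω) = 1 := by
  rw [map_mul]
  linear_combination (ω * σ ω + 1) * norm_root hF hq h

theorem gX_UG (h : Root ω) : tG (sX h) ∈ UG σ (Fin 3) := by
  refine diag_UG (d := ![1, ω, ω * ω]) rfl fun i => ?_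
  fin_cases i
  · simp
  · exact norm_root hF hq h
  · exact norm_root' hF hq h

omit hq in
theorem gY_UG : tG (sY : SL) ∈ UG σ (Fin 3) := by
  rw [mem_UG]
  show (Ym : Mn)ᵀ * (Ym : Mn).map σ = 1
  ext i j
  fin_cases i <;> fin_cases j <;> simp [Ym, Matrix.mul_apply, Fin.sum_univ_three]

theorem gF_UG (h : Root ω) : tG (sF h) ∈ UG σ (Fin 3) := by
  rw [← mem_GU_iff hF]
  intro u v
  exact SU3Max.Hess.iso_Fm hF h hq u v

theorem gG_UG (h : Root ω) : tG (sG h) ∈ UG σ (Fin 3) := by
  rw [← mem_GU_iff hF]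
  intro u v
  exact SU3Max.Hess.iso_Gm hF h hq u v

theorem rr_UG (h : Root ω) : rr h ∈ UG σ (Fin 3) := by
  refine diag_UG (d := ![ω, 1, 1]) rfl fun i => ?_
  fin_cases i
  · exact norm_root hF hq h
  · simp
  · simp

theorem Wq_UG (h : Root ω) : (Wq h : GT) ∈ UG σ (Fin 2 → Fin 3) := by
  refine diag_UG (d := fun x => ω ^ ((x 0 : ℕ) * (x 1 : ℕ))) rfl fun x => ?_
  rw [map_pow, ← mul_pow, norm_root hF hq h, one_pow]

omit hq in
theorem tau_UG : (tau : GT) ∈ UG σ (Fin 2 → Fin 3) := by
  rw [mem_UG]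
  show (-(permMat 3 F (Equiv.swap (0 : Fin 2) 1)))ᵀ * (-(permMat 3 F (Equiv.swap (0 : Fin 2) 1))).map σ = 1
  rw [Matrix.transpose_neg, show (-(permMat 3 F (Equiv.swap (0 : Fin 2) 1))).map σ =
    -(permMat 3 F (Equiv.swap (0 : Fin 2) 1) : MT).map σ from Matrix.map_neg _ (map_neg σ) _, neg_mul_neg]
  ext x y
  simp only [Matrix.mul_apply, Matrix.transpose_apply, Matrix.map_apply, permMat, Matrix.of_apply, apply_ite (frob hF),
    map_one, map_zero, mul_ite, mul_one, mul_zero, Matrix.one_apply]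
  rw [Finset.sum_eq_single (y ∘ Equiv.swap (0 : Fin 2) 1)]
  · have hy : (y ∘ Equiv.swap (0 : Fin 2) 1) ∘ Equiv.swap (0 : Fin 2) 1 = y := by funext i; simp
    simp only [hy, if_pos rfl]
    by_cases e : x = y
    · subst e; simp [hy]
    · simp [e]
  · intro z _ hz
    rw [if_neg]
    intro e
    exact hz (by subst e; funext i; simp)
  · simp

omit hq

/-- An overgroup of the pieces of the normaliser inside the special unitary group. -/
structure HasU (h : Root ω) (H : Subgroup (GL (Fin 2 → Fin 3) F)) : Prop extends HasN h H where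
  r : fu 0 (rr h) ∈ H
  le : H ≤ UG σ (Fin 2 → Fin 3)

/-- A subgroup of the unitary group of the factor with the generators of the Hessian group. -/
structure Gens (h : Root ω) (G : Subgroup (GL (Fin 3) F)) : Prop where
  le : G ≤ UG σ (Fin 3)
  X : tG (sX h) ∈ G
  Y : tG sY ∈ G
  f : tG (sF h) ∈ G
  g : tG (sG h) ∈ G
  r : rr h ∈ G

/-- The special unitary group of the factor lies in the group. -/
def Full (G : Subgroup (GL (Fin 3) F)) : Prop :=
  ∀ S : Matrix.SpecialLinearGroup (Fin 3) F, tG S ∈ UG σ (Fin 3) → tG S ∈ G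

/-- The alternative in the factor. -/
def Dich (h : Root ω) : Prop :=
  ∀ G : Subgroup (GL (Fin 3) F), Gens hF h G → Full hF G ∨ ∀ A ∈ G, Nz h A

end CfsgLib.MaxSub.SUNine
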