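/-
The twelve centres of the reflections of the Hessian group; transvections in overgroups.
-/
import Cfsg.Agent.Lib.MaxSub.SUNine.Basic
import Cfsg.Agent.Lib.MaxSub.SU3Max.Hess.Tv
import Mathlib.LinearAlgebra.CrossProduct

set_option autoImplicit false
set_option maxHeartbeats 800000
set_option linter.unusedSectionVars false

namespace CfsgLib.MaxSub.SUNine

open Matrix CfsgLib.UnitaryTransvection
open CfsgLib.MaxSub.SLThree.Hess (Root Xm Ym Fm Gm sX sY sF sG px py E px_mem py_mem mk_eq_iff f_x py_cube)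
open CfsgLib.MaxSub.SLNine

universe u

variable {F : Type u} [Field F] {ω : F}

local notation "V" => Fin 3 → F
local notation "G3" => GL (Fin 3) F
local notation "Mn" => Matrix (Fin 3) (Fin 3) F
local notation "SL" => Matrix.SpecialLinearGroup (Fin 3) F
local notation "P3" => Matrix.ProjectiveSpecialLinearGroup (Fin 3) F
local notation "mk'" => CfsgLib.MaxSub.SLThree.Hess.mk

/-- A centre of a reflection of the Hessian group, up to a scalar. -/
def Hes (ω : F) (v : Fin 3 → F) : Prop :=
  (∃ (k : Fin 3) (c : F), v = c • Pi.single k 1) ∨ ∃ (i j : Fin 3) (c : F), v = c • ![1, ω ^ (i : ℕ), ω ^ (j : ℕ)]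

variable [Fintype F]

theorem pconj_of_mul {A : G3} {S T : SL} {c : F} (hc : c ^ 3 = 1) (e : A.val * S.1 = c • (T.1 * A.val)) :
    pconj A (mk' S) = (mk' T : P3) := by
  rw [pconj_mk, eq_comm, mk_eq_iff]
  refine ⟨c, hc, ?_⟩
  show A.val * S.1 * (A⁻¹ : G3).val = _
  rw [e, Matrix.smul_mul, mul_assoc, Units.mul_inv, mul_one]

theorem nz_rr (h : Root ω) : Nz h (rr h) := by
  have hX : pconj (rr h) (px h) = (px h : P3) := by
    refine pconj_of_mul (c := 1) (one_pow _) ?_
    rw [one_smul, rr_val]
    show Matrix.diagonal _ * Xm ω = Xm ω * Matrix.diagonal _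
    rw [Xm, Matrix.diagonal_mul_diagonal, Matrix.diagonal_mul_diagonal]
    congr 1; funext i; exact mul_comm _ _
  have hY : pconj (rr h) py = (px h * py : P3) := by
    rw [px, py, ← map_mul]
    refine pconj_of_mul (c := ω) h.cube ?_
    rw [rr_val, CfsgLib.MaxSub.SLThree.Hess.val_mul]
    show Matrix.diagonal _ * Ym = ω • (Xm ω * Ym * Matrix.diagonal _)
    have := h.cube
    ext i j
    fin_cases i <;> fin_cases j <;> simp [Xm, Ym, Matrix.mul_apply, Fin.sum_univ_three] <;> first | linear_combination this | linear_combination -this | linear_combination (2:F) * this | linear_combination (-2:F) * this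
  exact ⟨by rw [hX]; exact px_mem h, by rw [hY]; exact mul_mem (px_mem h) (py_mem h)⟩

variable {q : ℕ} {hF : Fintype.card F = q ^ 2}

local notation "σ" => frob hF

theorem nz_gen (h : Root ω) :
    Nz h (tG (sX h)) ∧ Nz h (tG (sY : SL)) ∧ Nz h (tG (sF h)) ∧ Nz h (tG (sG h)) := by
  refine ⟨nz_of_norm ?_, nz_of_norm ?_, nz_of_norm ?_, nz_of_norm ?_⟩
  · exact Subgroup.le_normalizer (px_mem h)
  · exact Subgroup.le_normalizer (py_mem h)
  · exact CfsgLib.MaxSub.SLThree.Hess.Q_norm h (Subgroup.subset_closure (Or.inl rfl))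
  · exact CfsgLib.MaxSub.SLThree.Hess.Q_norm h (Subgroup.subset_closure (Or.inr rfl))

theorem nz_one (h : Root ω) : Nz h (1 : G3) := ⟨by rw [pconj_one]; exact px_mem h, by rw [pconj_one]; exact py_mem h⟩

variable {h : Root ω} {G : Subgroup (GL (Fin 3) F)}

theorem Gens.pow (hG : Gens hF h G) (n : ℕ) : ∀ {A : G3}, A ∈ G → Nz h A → A ^ n ∈ G ∧ Nz h (A ^ n) := by
  intro A hA hn
  refine ⟨pow_mem hA n, ?_⟩
  induction n with
  | zero => rw [pow_zero]; exact nz_one h
  | succ n ih => rw [pow_succ]; exact ih.mul hn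

/-- The generators move the first basis vector to each of the twelve centres. -/
theorem Gens.move (hG : Gens hF h G) {v : V} (hv : Hes ω v) :
    ∃ g ∈ G, Nz h g ∧ ∃ c : F, v = c • (g.val *ᵥ Pi.single 0 1) := by
  obtain ⟨nX, nY, nF, -⟩ := nz_gen h
  rcases hv with ⟨k, c, rfl⟩ | ⟨i, j, c, rfl⟩
  · refine ⟨tG sY ^ (k : ℕ), (hG.pow k hG.Y nY).1, (hG.pow k hG.Y nY).2, c, ?_⟩
    congr 1
    rw [Units.val_pow_eq_pow_val, tG_val]
    funext a
    fin_cases k <;> fin_cases a <;>
      simp [sY, Ym, pow_two, Matrix.mulVec, dotProduct, Fin.sum_univ_three]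
  · -- two conjugates of the reflection
    set r1 : G3 := tG sY * rr h * (tG sY)⁻¹ with hr1
    set r2 : G3 := tG sY * r1 * (tG sY)⁻¹ with hr2
    have g1 : r1 ∈ G := mul_mem (mul_mem hG.Y hG.r) (inv_mem hG.Y)
    have g2 : r2 ∈ G := mul_mem (mul_mem hG.Y g1) (inv_mem hG.Y)
    have n1 : Nz h r1 := (nY.mul (nz_rr h)).mul nY.inv
    have n2 : Nz h r2 := (nY.mul n1).mul nY.inv
    have v1 : r1.val = Matrix.diagonal ![1, ω, 1] := by
      have e : r1.val * (sY : SL).1 = Matrix.diagonal ![1, ω, 1] * (sY : SL).1 := by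
        rw [hr1, Units.val_mul, Units.val_mul, tG_val, mul_assoc, mul_assoc,
          show ((tG (sY : SL))⁻¹).val * (sY : SL).1 = 1 from Units.inv_mul _, mul_one, rr_val]
        ext a b
        fin_cases a <;> fin_cases b <;> simp [sY, Ym, Matrix.mul_apply, Fin.sum_univ_three]
      exact (Units.mul_left_inj (tG (sY : SL))).1 e
    have v2 : r2.val = Matrix.diagonal ![1, 1, ω] := by
      have e : r2.val * (sY : SL).1 = Matrix.diagonal ![1, 1, ω] * (sY : SL).1 := by
        rw [hr2, Units.val_mul, Units.val_mul, tG_val, mul_assoc, mul_assoc,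
          show ((tG (sY : SL))⁻¹).val * (sY : SL).1 = 1 from Units.inv_mul _, mul_one, v1]
        ext a b
        fin_cases a <;> fin_cases b <;> simp [sY, Ym, Matrix.mul_apply, Fin.sum_univ_three]
      exact (Units.mul_left_inj (tG (sY : SL))).1 e
    refine ⟨r1 ^ (i : ℕ) * r2 ^ (j : ℕ) * tG (sF h), mul_mem (mul_mem (pow_mem g1 _) (pow_mem g2 _)) hG.f,
      ((hG.pow i g1 n1).2.mul (hG.pow j g2 n2).2).mul nF, c * (ω - ω * ω), ?_⟩
    rw [← smul_smul]
    congr 1
    rw [Units.val_mul, Units.val_mul, Units.val_pow_eq_pow_val, Units.val_pow_eq_pow_val, v1, v2, tG_val,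
      Matrix.diagonal_pow, Matrix.diagonal_pow, Matrix.diagonal_mul_diagonal]
    show _ = _ • ((_ * Fm ω) *ᵥ _)
    have hs := h.sub_ne
    funext a
    rw [Fm, Matrix.mul_smul, Matrix.smul_mulVec, smul_smul, mul_inv_cancel₀ hs, one_smul, Matrix.mulVec_single_one]
    fin_cases a <;> simp [Matrix.col, Matrix.diagonal_mul]

/-- If all first columns are among the twelve centres, the group normalises the group of order nine. -/
theorem Gens.nz_of_points (hG : Gens hF h G) (hall : ∀ A ∈ G, Hes ω (A.val *ᵥ Pi.single 0 1)) :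
    ∀ A ∈ G, Nz h A := by
  obtain ⟨nX, nY, nF, -⟩ := nz_gen h
  have key : ∀ A ∈ G, pconj A (px h) ∈ E h := by
    intro A hA
    obtain ⟨g, hg, hgn, c, hc⟩ := hG.move (hall A hA)
    set B := g⁻¹ * A with hB
    have hBG : B ∈ G := mul_mem (inv_mem hg) hA
    have h0 : ∀ a, a ≠ 0 → B.val a 0 = 0 := by
      intro a ha
      have : B.val *ᵥ Pi.single 0 1 = c • (Pi.single 0 1 : V) := by
        rw [hB, Units.val_mul, ← Matrix.mulVec_mulVec, hc, Matrix.mulVec_smul, Matrix.mulVec_mulVec, Units.inv_mul,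
          Matrix.one_mulVec]
      have := congrFun this a
      simpa [Matrix.mulVec_single_one, Matrix.col, Pi.single_eq_of_ne ha] using this
    have hBU := hG.le hBG
    have hcol : ∀ j : Fin 3, Hes ω (fun a => B.val a j) := by
      intro j
      have hm : B * tG sY ^ (j : ℕ) ∈ G := mul_mem hBG (pow_mem hG.Y _)
      convert hall _ hm using 1
      funext a
      show B.val a j = ((B * tG sY ^ (j : ℕ) : G3).val *ᵥ Pi.single 0 1) a
      rw [Units.val_mul B, Units.val_pow_eq_pow_val, tG_val]
      fin_cases j <;> simp [sY, Ym, pow_two, Matrix.mulVec, dotProduct, Fin.sum_univ_three, Matrix.mul_apply]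
    have hne : ∀ j : Fin 3, (fun a => B.val a j) ≠ 0 := fun j e => by
      have := UG_cols hBU j j
      simp [congrFun e] at this
    have c00 : B.val 0 0 ≠ 0 := fun e => hne 0 (funext fun a => by
      by_cases ha : a = 0
      · rw [ha]; exact e
      · exact h0 a ha)
    have h1 : ∀ j : Fin 3, j ≠ 0 → B.val 0 j = 0 := by
      intro j hj
      have := UG_cols hBU j 0
      simp only [Fin.sum_univ_three, if_neg hj, h0 1 (by decide), h0 2 (by decide), map_zero, mul_zero, add_zero] at this
      exact (mul_eq_zero.1 this).resolve_right ((map_ne_zero _).2 c00)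
    have hmono : ∀ j : Fin 3, j ≠ 0 → ∃ k : Fin 3, k ≠ 0 ∧ ∀ a, a ≠ k → B.val a j = 0 := by
      intro j hj
      rcases hcol j with ⟨k, d, hd⟩ | ⟨i, l, d, hd⟩
      · refine ⟨k, fun hk => ?_, fun a ha => ?_⟩
        · have e := congrFun hd 0
          simp [hk, h1 j hj] at e
          exact hne j (by rw [hd, ← e, zero_smul])
        · simpa [Pi.single_eq_of_ne ha] using congrFun hd a
      · exfalso
        have e := congrFun hd 0
        simp [h1 j hj] at e
        exact hne j (by rw [hd, ← e, zero_smul])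
    obtain ⟨k1, hk1, z1⟩ := hmono 1 (by decide)
    obtain ⟨k2, hk2, z2⟩ := hmono 2 (by decide)
    have hk : k1 ≠ k2 := fun e => by
      have := UG_cols hBU 1 2
      rw [if_neg (by decide), Finset.sum_eq_single k1 (fun a _ ha => by rw [z1 a ha, zero_mul]) (by simp)] at this
      rcases mul_eq_zero.1 this with e' | e'
      · exact hne 1 (funext fun a => by by_cases ha : a = k1 <;> [rw [ha]; skip] <;> [exact e'; exact z1 a ha])
      · exact hne 2 (funext fun a => by
          by_cases ha : a = k1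
          · rw [ha]; exact (map_eq_zero _).1 e'
          · exact z2 a (e ▸ ha))
    have hBX : ∃ T : SL, (T = sX h ∨ T = sX h * sX h) ∧ B.val * (sX h).1 = T.1 * B.val := by
      rcases ((by decide : ∀ a b : Fin 3, a ≠ 0 → b ≠ 0 → a ≠ b → a = 1 ∧ b = 2 ∨ a = 2 ∧ b = 1) k1 k2 hk1 hk2 hk) with ⟨rfl, rfl⟩ | ⟨rfl, rfl⟩
      · refine ⟨sX h, Or.inl rfl, ?_⟩
        ext a b
        have a1 := z1 0 (by decide); have a2 := z1 2 (by decide); have a3 := z2 0 (by decide); have a4 := z2 1 (by decide)
        have a5 := h0 1 (by decide); have a6 := h0 2 (by decide)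
        fin_cases a <;> fin_cases b <;> simp [sX, Xm, Matrix.mul_diagonal, Matrix.diagonal_mul, a1, a2, a3, a4, a5, a6] <;> ring
      · refine ⟨sX h * sX h, Or.inr rfl, ?_⟩
        rw [CfsgLib.MaxSub.SLThree.Hess.val_mul]
        show B.val * Xm ω = Xm ω * Xm ω * B.val
        rw [Xm, Matrix.diagonal_mul_diagonal]
        ext a b
        have a1 := z1 0 (by decide); have a2 := z1 1 (by decide); have a3 := z2 0 (by decide); have a4 := z2 2 (by decide)
        have a5 := h0 1 (by decide); have a6 := h0 2 (by decide)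
        have := h.cube
        fin_cases a <;> fin_cases b <;>
          simp [Matrix.mul_diagonal, Matrix.diagonal_mul, a1, a2, a3, a4, a5, a6] <;> grind
    obtain ⟨T, hT, e⟩ := hBX
    have hTE : (mk' T : P3) ∈ E h := by
      rcases hT with rfl | rfl
      · exact px_mem h
      · rw [map_mul]; exact mul_mem (px_mem h) (px_mem h)
    have e2 : pconj B (px h) = (mk' T : P3) := pconj_of_mul (c := 1) (one_pow _) (by rw [one_smul]; exact e)
    rw [show A = g * B by rw [hB, mul_inv_cancel_left], pconj_mul, e2]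
    exact hgn.map hTE
  intro A hA
  refine ⟨key A hA, ?_⟩
  have e := key _ (mul_mem hA hG.f)
  rw [pconj_mul, show pconj (tG (sF h)) (px h) = (py * py : P3) by rw [pconj_tG]; exact f_x h] at e
  have := mul_mem e e
  rwa [← map_mul, show (py : P3) * py * (py * py) = py * (py * py) * py by simp only [mul_assoc], py_cube,
    one_mul] at this

end CfsgLib.MaxSub.SUNine
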