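/-
The two factor groups and the mixing element generate the special unitary group.
-/
import Cfsg.Agent.Lib.MaxSub.SUNine.Basic
import Cfsg.Agent.Lib.MaxSub.TensorForm.Unitary

set_option autoImplicit false
set_option maxHeartbeats 800000
set_option linter.unusedSectionVars false

namespace CfsgLib.MaxSub.SUNine

open Matrix CfsgLib.UnitaryTransvection
open CfsgLib.MaxSub.SLThree.Hess (Root)
open CfsgLib.MaxSub.SLNine
open CfsgLib.MaxSub.TensorPow
open CfsgLib.Aschbacher (pureMat pureMat_apply pureMat_mul pureGL permGL frU frU_val frAlg_apply)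
open CfsgLib.MaxSub.SU3Max (h_eq_zero_swap)

universe u

variable {F : Type u} [Field F]

local notation "GT" => GL (Fin 2 → Fin 3) F
local notation "MT" => Matrix (Fin 2 → Fin 3) (Fin 2 → Fin 3) F
local notation "Mn" => Matrix (Fin 3) (Fin 3) F

/-- An antidiagonal Gram matrix and the adjoint with respect to it. -/
theorem gram_iff {ι : Type} [Fintype ι] [DecidableEq ι] {s : F →+* F} {r : ι → ι} (hr : Function.Involutive r)
    {g M : Matrix ι ι F} (hM : ∀ a b, M a b = s (g (r b) (r a))) :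
    gᵀ * (Matrix.of fun a b => if b = r a then (1 : F) else 0) * g.map s =
      (Matrix.of fun a b => if b = r a then (1 : F) else 0) ↔ M * g = 1 := by
  have key : ∀ a b, (M * g) a b =
      (gᵀ * (Matrix.of fun a b => if b = r a then (1 : F) else 0) * g.map s) b (r a) := by
    intro a b
    rw [Matrix.mul_apply, Matrix.mul_apply]
    refine Fintype.sum_equiv (hr.toPerm r) _ _ fun k => ?_
    rw [hM, Matrix.mul_apply, Finset.sum_eq_single k]
    · simp [mul_comm, Matrix.map_apply]
    · intro l _ hl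
      rw [Matrix.of_apply, if_neg, mul_zero]
      intro e
      exact hl (hr.injective (by simpa using e)).symm
    · simp
  have hJ : ∀ a b, (Matrix.of fun a b => if b = r a then (1 : F) else 0) b (r a) = (1 : Matrix ι ι F) a b := by
    intro a b
    by_cases e : a = b
    · subst e; simp
    · simp [e, hr.injective.eq_iff]
  constructor
  · intro e
    ext a b
    rw [key, e, hJ]
  · intro e
    ext b c
    have := key (r c) b
    rw [e, ← hJ, hr c] at this
    exact this.symm

variable [Fintype F] {q : ℕ} {hF : Fintype.card F = q ^ 2}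

local notation "σ" => frob hF

theorem frU_one_val (e : Fin 9 ≃ (Fin 2 → Fin 3)) (g : GT) :
    (frU e (1 : GL (Fin 9) F) g).val = g.val.submatrix e e := by
  rw [frU_val, frAlg_apply]
  simp

theorem frU_one_UG (e : Fin 9 ≃ (Fin 2 → Fin 3)) (g : GT) :
    frU e (1 : GL (Fin 9) F) g ∈ UG σ (Fin 9) ↔ g ∈ UG σ (Fin 2 → Fin 3) := by
  rw [mem_UG, mem_UG, frU_one_val, Matrix.transpose_submatrix, ← Matrix.submatrix_map,
    Matrix.submatrix_mul_equiv]
  constructor
  · intro he
    ext a b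
    simpa [Matrix.one_apply] using congrFun (congrFun he (e.symm a)) (e.symm b)
  · intro he
    rw [he, Matrix.submatrix_one_equiv]

/-- The groups of the two factors and an element outside the wreath product give everything. -/
theorem pair_top {ω : F} {h : Root ω} (hq : 3 ≤ q) {H : Subgroup GT}
    (hle : ∀ g ∈ H, g ∈ UG σ (Fin 2 → Fin 3) ∧ g.val.det = 1) (hw : Wq h ∈ H)
    (hfac : ∀ (i : Fin 2) (S : Matrix.SpecialLinearGroup (Fin 3) F), tG S ∈ UG σ (Fin 3) → fu i (tG S) ∈ H) :
    ∀ g : GT, g ∈ UG σ (Fin 2 → Fin 3) → g.val.det = 1 → g ∈ H := by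
  classical
  haveI : NeZero (3 : ℕ) := ⟨by norm_num⟩
  set Φ := TensorForm.unitaryFrame hF 3 with hΦ
  -- a basis of the factor with antidiagonal Gram matrix
  obtain ⟨C, hC⟩ : ∃ C : GL (Fin 3) F, C.valᵀ * C.val.map σ = TensorForm.antiJ 3 F := by
    have hf : Cfsg.Geo.IsUnitaryFormPow q (Cfsg.hermForm 3 F q) :=
      { add_left := fun x y v => h_add_left x y v
        smul_left := fun c x v => h_smul_left c x v
        herm := fun v w => by rw [← frob_apply hF]; exact (h_swap hF w v).symm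
        nondegenerate := fun v hv => by
          have h1 : ∃ w, Cfsg.hermForm 3 F q v w ≠ 0 := by
            by_contra hno
            push Not at hno
            exact hv (h_nondeg hF hno)
          obtain ⟨w, hw⟩ := h1
          exact ⟨⟨w, fun e => hw ((h_eq_zero_swap hF).2 e)⟩, w, hw⟩ }
    obtain ⟨C, hC⟩ := TensorForm.exists_anti hF hf
    refine ⟨C, ?_⟩
    rwa [show Cfsg.Geo.gramMatrix (Cfsg.hermForm 3 F q) = (1 : Mn) from ?_, mul_one] at hC
    ext a b
    rw [Cfsg.Geo.gramMatrix, Cfsg.hermForm, Finset.sum_eq_single a (fun l _ hl => by simp [hl]) (by simp),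
      Matrix.one_apply]
    by_cases e : a = b
    · subst e; simp
    · have hq0 : q ≠ 0 := by omega
      simp [e, zero_pow hq0]
  set u : GT := pureGL fun _ => C with hu
  set JT : MT := Matrix.of fun a b => if b = Fin.rev ∘ a then (1 : F) else 0 with hJT
  have hUU : u.valᵀ * u.val.map σ = JT := by
    have hv : u.val = pureMat fun _ => C.val := rfl
    have eT : u.valᵀ = pureMat fun _ => C.valᵀ := by ext p r; simp [hv, pureMat_apply]
    have eM : u.val.map σ = pureMat fun _ => C.val.map σ := by ext p r; simp [hv, pureMat_apply, map_prod]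
    rw [eT, eM, pureMat_mul]
    show pureMat (fun _ => C.valᵀ * C.val.map σ) = JT
    rw [hC]
    ext a b
    rw [pureMat_apply, Fin.prod_univ_two, hJT, Matrix.of_apply]
    simp only [TensorForm.antiJ, Matrix.of_apply]
    by_cases e : b = Fin.rev ∘ a
    · subst e; simp
    · rw [if_neg e]
      by_cases e0 : b 0 = (a 0).rev
      · rw [if_pos e0, if_neg, mul_zero]
        intro e1
        exact e (funext fun i => by fin_cases i <;> assumption)
      · rw [if_neg e0, zero_mul]
  have hiso : ∀ g : GT, u * g * u⁻¹ ∈ UG σ (Fin 2 → Fin 3) ↔ Φ.Iso g := by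
    intro g
    have hM : ∀ a b, Φ.adj g.val a b = σ (g.val (Fin.rev ∘ b) (Fin.rev ∘ a)) := fun a b => by
      show Φ.sgT a * Φ.sgT b * _ = _
      simp [TensorForm.Frame.sgT, Φ, TensorForm.unitaryFrame]
    show _ ↔ Φ.adj g.val * g.val = 1
    rw [← gram_iff (s := σ) (r := fun x : Fin 2 → Fin 3 => Fin.rev ∘ x) TensorForm.Frame.revT_inv hM, ← hJT]
    rw [mem_UG, Units.val_mul, Units.val_mul, Matrix.transpose_mul, Matrix.transpose_mul, Matrix.map_mul,
      Matrix.map_mul]
    constructor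
    · intro he
      calc g.valᵀ * JT * g.val.map σ = g.valᵀ * (u.valᵀ * u.val.map σ) * g.val.map σ := by rw [hUU]
        _ = (u.valᵀ * (u⁻¹ : GT).valᵀ) * (g.valᵀ * (u.valᵀ * u.val.map σ) * g.val.map σ) *
            ((u⁻¹ : GT).val.map σ * u.val.map σ) := by
          rw [← Matrix.transpose_mul, Units.inv_mul, Matrix.transpose_one, one_mul, ← Matrix.map_mul, Units.inv_mul,
            Matrix.map_one _ (map_zero σ) (map_one σ), mul_one]
        _ = u.valᵀ * ((u⁻¹ : GT).valᵀ * (g.valᵀ * u.valᵀ) * (u.val.map σ * g.val.map σ * (u⁻¹ : GT).val.map σ)) *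
            u.val.map σ := by simp only [mul_assoc]
        _ = JT := by rw [he, mul_one, hUU]
    · intro he
      calc _ = (u⁻¹ : GT).valᵀ * (g.valᵀ * (u.valᵀ * u.val.map σ) * g.val.map σ) * (u⁻¹ : GT).val.map σ := by
            simp only [mul_assoc]
        _ = (u⁻¹ : GT).valᵀ * (u.valᵀ * u.val.map σ) * (u⁻¹ : GT).val.map σ := by rw [hUU, he]
        _ = (u.val * (u⁻¹ : GT).val)ᵀ * (u.val * (u⁻¹ : GT).val).map σ := by
            rw [Matrix.transpose_mul, Matrix.map_mul]; simp only [mul_assoc]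
        _ = 1 := by rw [Units.mul_inv, Matrix.transpose_one, Matrix.map_one _ (map_zero σ) (map_one σ), mul_one]
  set K : Subgroup GT := H.comap (MulAut.conj u).toMonoidHom with hK
  have hKmem : ∀ g, g ∈ K ↔ u * g * u⁻¹ ∈ H := fun g => Iff.rfl
  have hH : Φ.Hyp K := by
    refine ⟨fun g hg => (hiso g).1 (hle _ ((hKmem g).1 hg)).1, fun i s hs => (hKmem _).2 ?_,
      ⟨fun i j l hij hli hlj => ?_, fun i j l hji hli => ?_⟩⟩
    · let S : Matrix.SpecialLinearGroup (Fin 3) F := ⟨(C * s * C⁻¹ : GL (Fin 3) F).val, by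
        rw [Units.val_mul, Units.val_mul, Matrix.det_units_conj, hs.2]⟩
      have e : u * fu i s * u⁻¹ = fu i (tG S) := by
        rw [hu, fu_eq, pureGL_inv, pureGL_mul, pureGL_mul,
          fu_eq]
        congr 1
        funext j
        simp only [Pi.mul_apply, Pi.inv_apply, Function.update_apply]
        split_ifs
        · exact Units.ext rfl
        · simp
      rw [e]
      refine hfac i S ?_
      have h1 := (gram_iff (s := σ) (g := s.val) (M := Φ.adj1 s.val) Fin.rev_involutive (fun a b => by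
        show Φ.sg a * Φ.sg b * _ = _
        simp [Φ, TensorForm.unitaryFrame])).2 hs.1
      rw [mem_UG, tG_val]
      show (C * s * C⁻¹ : GL (Fin 3) F).valᵀ * (C * s * C⁻¹ : GL (Fin 3) F).val.map σ = 1
      rw [Units.val_mul, Units.val_mul, Matrix.transpose_mul, Matrix.transpose_mul, Matrix.map_mul, Matrix.map_mul]
      calc _ = (C⁻¹ : GL (Fin 3) F).valᵀ * (s.valᵀ * (C.valᵀ * C.val.map σ) * s.val.map σ) *
            (C⁻¹ : GL (Fin 3) F).val.map σ := by simp only [mul_assoc]
        _ = (C⁻¹ : GL (Fin 3) F).valᵀ * (C.valᵀ * C.val.map σ) * (C⁻¹ : GL (Fin 3) F).val.map σ := by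
            rw [hC]; exact congrArg (fun z => _ * z * _) h1
        _ = (C.val * (C⁻¹ : GL (Fin 3) F).val)ᵀ * (C.val * (C⁻¹ : GL (Fin 3) F).val).map σ := by
            rw [Matrix.transpose_mul, Matrix.map_mul]; simp only [mul_assoc]
        _ = 1 := by rw [Units.mul_inv, Matrix.transpose_one, Matrix.map_one _ (map_zero σ) (map_one σ), mul_one]
    · exfalso
      have h1 := i.isLt; have h2 := j.isLt; have h3 := l.isLt
      have n1 : (i : ℕ) ≠ j := fun e => hij (Fin.ext e)
      have n2 : (l : ℕ) ≠ i := fun e => hli (Fin.ext e)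
      have n3 : (l : ℕ) ≠ j := fun e => hlj (Fin.ext e)
      omega
    · by_cases hjl : j = l
      · exact ⟨1, 1, rfl, hjl, by rw [pureGL_one, permGL_one, one_mul]; exact one_mem K⟩
      exfalso
      have h1 := i.isLt; have h2 := j.isLt; have h3 := l.isLt
      have n1 : (j : ℕ) ≠ i := fun e => hji (Fin.ext e)
      have n2 : (l : ℕ) ≠ i := fun e => hli (Fin.ext e)
      have n3 : (j : ℕ) ≠ l := fun e => hjl (Fin.ext e)
      omega
  obtain ⟨γ, hγ, hγs⟩ := exists_skew hF
  have hL : Φ.Lng γ := by show γ + 1 * σ γ = 0; rwa [one_mul]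
  obtain ⟨cc, hcc⟩ := UnitaryTransvection.exists_trace_one hF
  have hcc' : cc + Φ.σ cc = 1 := by show cc + σ cc = 1; rwa [add_comm]
  obtain ⟨hTools, hPat⟩ := TensorForm.unitary_tools hF le_rfl (by omega) (a := (0 : Fin 3)) rfl
  rcases TensorForm.wr_or_transvections (le_refl 3) (le_refl 2) hH hTools hPat rfl hγ hL hcc' with hwr | htr
  · refine absurd ?_ (Wq_not_wr h)
    have hm : u⁻¹ * Wq h * u ∈ K := (hKmem _).2 (by rwa [show u * (u⁻¹ * Wq h * u) * u⁻¹ = Wq h by group])
    have hs : u ∈ Cfsg.Geo.tensorWreathStandard 3 2 F :=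
      mem_std_iff.2 ⟨fun _ => C, 1, by rw [permGL_one, mul_one]⟩
    have := mul_mem (mul_mem hs (hwr hm)) (inv_mem hs)
    rwa [show u * (u⁻¹ * Wq h * u) * u⁻¹ = Wq h by group] at this
  · obtain ⟨e⟩ : Nonempty (Fin 9 ≃ (Fin 2 → Fin 3)) := ⟨(finFunctionFinEquiv (m := 3) (n := 2)).symm⟩
    set ψ := frU e (1 : GL (Fin 9) F) with hψ
    intro g hg hd
    suffices hS : Cfsg.GU 9 F q ⊓ Cfsg.Geo.specialLinear (Fin 9) F ≤ H.map ψ.toMonoidHom by
      have : ψ g ∈ Cfsg.GU 9 F q ⊓ Cfsg.Geo.specialLinear (Fin 9) F :=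
        ⟨(mem_GU_iff hF).2 ((frU_one_UG e g).2 hg), MonoidHom.mem_ker.2 (Units.ext (by
          rw [Matrix.GeneralLinearGroup.val_det_apply, Units.val_one]
          rw [hψ, frU_one_val, Matrix.det_submatrix_equiv_self, hd]))⟩
      obtain ⟨g', hg', he'⟩ := hS this
      exact ψ.injective he' ▸ hg'
    refine SU_le_of_ctr (hF := hF) (by norm_num) ?_
    intro v hv g' d hd' hg'
    obtain ⟨x, rfl⟩ : ∃ x : (Fin 2 → Fin 3) → F, v = (u.val *ᵥ x) ∘ e := by
      refine ⟨(u⁻¹ : GT).val *ᵥ (v ∘ e.symm), ?_⟩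
      rw [Matrix.mulVec_mulVec, Units.mul_inv, Matrix.one_mulVec, Function.comp_assoc, Equiv.symm_comp_self,
        Function.comp_id]
    have hform : ∀ x y : (Fin 2 → Fin 3) → F,
        Cfsg.hermForm 9 F q ((u.val *ᵥ x) ∘ e) ((u.val *ᵥ y) ∘ e) = Φ.qT y ⬝ᵥ x := by
      intro x y
      have h1 : Cfsg.hermForm 9 F q ((u.val *ᵥ x) ∘ e) ((u.val *ᵥ y) ∘ e) =
          (u.val *ᵥ x) ⬝ᵥ fun a => σ ((u.val *ᵥ y) a) := by
        rw [dotProduct, ← e.sum_comp]
        exact Finset.sum_congr rfl fun a _ => by simp [frob_apply]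
      have h2 : (fun a => σ ((u.val *ᵥ y) a)) = u.val.map σ *ᵥ fun a => σ (y a) :=
        funext fun a => RingHom.map_mulVec σ u.val y a
      rw [h1, h2, ← Matrix.vecMul_transpose, ← Matrix.dotProduct_mulVec, Matrix.mulVec_mulVec, hUU,
        dotProduct_comm]
      congr 1
      funext a
      rw [Matrix.mulVec, dotProduct, Finset.sum_eq_single (Fin.rev ∘ a) (fun l _ hl => by simp [hJT, hl]) (by simp)]
      simp [hJT, TensorForm.Frame.qT, TensorForm.Frame.sgT, Φ, TensorForm.unitaryFrame]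
    rw [hform] at hv
    obtain ⟨g₀, hg₀, hg₀v⟩ := htr x hv d (by
      show d + Φ.eps ^ 2 * σ d = 0
      rw [show Φ.eps = 1 from rfl, one_pow, one_mul]
      linear_combination hd')
    refine ⟨u * g₀ * u⁻¹, (hKmem g₀).1 hg₀, Units.ext (Matrix.ext_of_mulVec_single fun p => ?_)⟩
    obtain ⟨y, hy⟩ : ∃ y : (Fin 2 → Fin 3) → F, (Pi.single p 1 : Fin 9 → F) = (u.val *ᵥ y) ∘ e :=
      ⟨(u⁻¹ : GT).val *ᵥ ((Pi.single p 1 : Fin 9 → F) ∘ e.symm), by
        rw [Matrix.mulVec_mulVec, Units.mul_inv, Matrix.one_mulVec, Function.comp_assoc, Equiv.symm_comp_self,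
          Function.comp_id]⟩
    rw [hg', tmat_mulVec, hy, hform]
    show (ψ (u * g₀ * u⁻¹)).val *ᵥ _ = _
    have hm : ∀ z : (Fin 2 → Fin 3) → F, (ψ (u * g₀ * u⁻¹)).val *ᵥ (z ∘ e) = ((u * g₀ * u⁻¹).val *ᵥ z) ∘ e := by
      intro z
      rw [hψ, frU_one_val, Matrix.submatrix_mulVec_equiv, Function.comp_assoc, Equiv.self_comp_symm,
        Function.comp_id]
    rw [hm, Units.val_mul, Units.val_mul, Matrix.mulVec_mulVec, mul_assoc, Units.inv_mul, mul_one,
      ← Matrix.mulVec_mulVec, hg₀v, Matrix.add_mulVec, Matrix.one_mulVec, Matrix.smul_mulVec,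
      Matrix.vecMulVec_mulVec, op_smul_eq_smul, smul_smul, Matrix.mulVec_add, Matrix.mulVec_smul]
    rfl

end CfsgLib.MaxSub.SUNine
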