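/-
A factor element outside the Hessian normaliser gives the special unitary group.
-/
import Cfsg.Agent.Lib.MaxSub.SUNine.Top
import Cfsg.Agent.Lib.MaxSub.SUNine.Points

set_option autoImplicit false
set_option maxHeartbeats 800000
set_option linter.unusedSectionVars false

namespace CfsgLib.MaxSub.SUNine

open Matrix CfsgLib.UnitaryTransvection
open CfsgLib.MaxSub.SLThree.Hess (Root sX sY sF sG px py px_mem py_mem)
open CfsgLib.MaxSub.SLNine
open CfsgLib.MaxSub.TensorPow

universe u

variable {F : Type u} [Field F] {ω : F}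

local notation "mk'" => CfsgLib.MaxSub.SLThree.Hess.mk
local notation "G3" => GL (Fin 3) F
local notation "GT" => GL (Fin 2 → Fin 3) F
local notation "P3" => Matrix.ProjectiveSpecialLinearGroup (Fin 3) F

theorem pconj_scU (c : Fˣ) (x : P3) : pconj (scU c : G3) x = x := by
  obtain ⟨M, rfl⟩ := CfsgLib.MaxSub.SLThree.Hess.mk_surj x
  rw [pconj_mk]
  congr 1
  refine Matrix.SpecialLinearGroup.toGL_injective ?_
  show tG (sconj (scU c) M) = tG M
  rw [tG_sconj, scU_comm, mul_inv_cancel_right]

theorem nz_scU (h : Root ω) (c : Fˣ) : Nz h (scU c : G3) :=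
  ⟨by rw [pconj_scU]; exact px_mem h, by rw [pconj_scU]; exact py_mem h⟩

variable [Fintype F] {p : ℕ} {hF : Fintype.card F = p ^ 2} {h : Root ω} {H : Subgroup GT}

local notation "σ" => frob hF

/-- A factor element outside the normaliser gives everything. -/
theorem top_of_big {H : Subgroup GT} (N : HasU hF h H) (hd : Dich hF h) (hp : 3 ≤ p) (hb : ¬ NotBig h H) :
    ∀ g : GT, g ∈ UG σ (Fin 2 → Fin 3) → g.val.det = 1 → g ∈ H := by
  simp only [NotBig, not_forall] at hb
  obtain ⟨A, c, hA, hns⟩ := hb
  set G := H.comap (fu (0 : Fin 2)) with hG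
  have hgens : Gens hF h G :=
    { le := fun B hB => fu_UG.1 (N.le hB)
      X := N.X
      Y := N.Y
      f := N.f
      g := N.g
      r := N.r }
  have hA' : scU c * A ∈ G := by
    show fu (0 : Fin 2) (scU c * A) ∈ H
    rw [map_mul, fu_scU]
    exact hA
  rcases hd G hgens with hfull | hnz
  · refine pair_top (h := h) hp (fun g hg => ⟨N.le hg, N.det g hg⟩) N.w fun i S hS => N.both (hfull S hS) i
  · refine absurd ?_ hns
    have := (nz_scU h c).inv.mul (hnz _ hA')
    rwa [inv_mul_cancel_left] at this

end CfsgLib.MaxSub.SUNine
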