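/-
A transvection in an overgroup of the Hessian group gives the special unitary group.
-/
import Cfsg.Agent.Lib.MaxSub.SUNine.Points

set_option autoImplicit false
set_option maxHeartbeats 800000
set_option linter.unusedSectionVars false

namespace CfsgLib.MaxSub.SUNine

open Matrix CfsgLib.UnitaryTransvection
open CfsgLib.MaxSub (Ctr)
open CfsgLib.MaxSub.SLThree.Hess (Root Xm Ym Fm sX sY sF sG)
open CfsgLib.MaxSub.SLNine
open CfsgLib.MaxSub.SU3Max

universe u

variable {F : Type u} [Field F] [Fintype F] {ω : F} {p : ℕ} {hF : Fintype.card F = p ^ 2} {h : Root ω}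

local notation "V" => Fin 3 → F
local notation "G3" => GL (Fin 3) F
local notation "hh" => Cfsg.hermForm 3 F p
local notation "σ" => frob hF
local notation "GG" => Cfsg.GU 3 F p ⊓ Cfsg.Geo.specialLinear (Fin 3) F

theorem hh_dot (x y : V) : hh x y = x ⬝ᵥ fun i => σ (y i) :=
  Finset.sum_congr rfl fun i _ => by simp only [frob_apply]

include hF in
/-- Perpendicular isotropic vectors are proportional. -/
theorem iso_prop {a b : V} (ha0 : a ≠ 0) (ha : hh a a = 0) (hb : hh b b = 0) (hab : hh a b = 0) :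
    ∃ c : F, b = c • a := by
  by_contra hno
  have hli : LinearIndependent F ![a, b] :=
    (LinearIndependent.pair_iff' ha0).2 fun c e => hno ⟨c, e.symm⟩
  have hn : crossProduct a b ≠ 0 := crossProduct_ne_zero_iff_linearIndependent.2 hli
  have key : ∀ v : V, hh a v = 0 → hh b v = 0 → ∃ c : F, (fun i => σ (v i)) = c • crossProduct a b := by
    intro v h1 h2
    rw [hh_dot (hF := hF)] at h1 h2
    have e : crossProduct (crossProduct a b) (fun i => σ (v i)) = 0 := by
      rw [cross_cross_eq_smul_sub_smul, h1, h2, zero_smul, zero_smul, sub_self]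
    by_contra hc
    exact crossProduct_ne_zero_iff_linearIndependent.2
      ((LinearIndependent.pair_iff' hn).2 fun c e => hc ⟨c, e.symm⟩) e
  obtain ⟨c, hc⟩ := key a ha ((h_eq_zero_swap hF).1 hab)
  obtain ⟨d, hd⟩ := key b hab hb
  have hc0 : c ≠ 0 := by
    rintro rfl
    refine ha0 (funext fun i => ?_)
    simpa using congrFun hc i
  refine hno ⟨σ (d / c), funext fun i => (frob hF).injective ?_⟩
  have e1 := congrFun hc i
  have e2 := congrFun hd i
  simp only [Pi.smul_apply, smul_eq_mul, map_mul, frob_frob] at e1 e2 ⊢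
  rw [e1, e2]
  field_simp

/-- The nine translates of a vector span everything. -/
theorem orbit_ne (h : Root ω) {a n : V} (ha : a ≠ 0) (hn : n ≠ 0) :
    ∃ i j : Fin 3, n ⬝ᵥ ((Xm ω ^ (i : ℕ) * Ym ^ (j : ℕ)) *ᵥ a) ≠ 0 := by
  by_contra hno
  simp only [not_exists, not_not] at hno
  have key : ∀ (k : Fin 3) (j : Fin 3), n k * (((Ym : Matrix (Fin 3) (Fin 3) F) ^ (j : ℕ)) *ᵥ a) k = 0 := by
    intro k j
    set b := ((Ym : Matrix (Fin 3) (Fin 3) F) ^ (j : ℕ)) *ᵥ a with hb
    have e : ∀ i : Fin 3, n ⬝ᵥ (Xm ω ^ (i : ℕ) *ᵥ b) = 0 := fun i => by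
      rw [hb, Matrix.mulVec_mulVec]; exact hno i j
    have e0 := e 0; have e1 := e 1; have e2 := e 2
    simp [Xm, dotProduct, Fin.sum_univ_three, pow_two, Matrix.mulVec_diagonal] at e0 e1 e2
    have := h.eq
    have := h.three
    fin_cases k <;> simp <;> grind
  refine hn (funext fun k => ?_)
  by_contra hk
  refine ha (funext fun m => ?_)
  obtain ⟨j, hj⟩ : ∃ j : Fin 3, (((Ym : Matrix (Fin 3) (Fin 3) F) ^ (j : ℕ)) *ᵥ a) k = a m := by
    refine ⟨k - m, ?_⟩
    fin_cases k <;> fin_cases m <;> simp [show (-2 : Fin 3) = 1 from rfl, show (-1 : Fin 3) = 2 from rfl, Ym, pow_two, Matrix.mulVec, dotProduct, Fin.sum_univ_three]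
  have := (mul_eq_zero.1 (key k j)).resolve_left hk
  rwa [hj] at this

variable {G : Subgroup (GL (Fin 3) F)}

/-- One transvection gives the special unitary group. -/
theorem Gens.full_of_tv [Fact p.Prime] [CharP F p] (hG : Gens hF h G) (hp : p % 3 = 2) (hp2 : p ≠ 2) {X : G3}
    (hX : X ∈ G) {a : V} {k : F} (ha0 : a ≠ 0) (ha : hh a a = 0) (hk0 : k ≠ 0) (hk : k + σ k = 0)
    (hXv : X.val = Cfsg.unitaryTransvection 3 p a k) : Full hF G := by
  have hp3 : 3 ≤ p := by have := (Fact.out : p.Prime).two_le; omega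
  set K := G ⊓ GG with hK
  have toGG : ∀ S : Matrix.SpecialLinearGroup (Fin 3) F, tG S ∈ UG σ (Fin 3) → tG S ∈ GG := fun S hS =>
    ⟨(mem_GU_iff hF).2 hS, MonoidHom.mem_ker.2 (Units.ext S.2)⟩
  have hXG : X ∈ K := ⟨hX, (mem_GU_iff hF).2 (hG.le hX), MonoidHom.mem_ker.2 (Units.ext (by
    show X.val.det = 1
    rw [hXv, det_tmat, ha, mul_zero, add_zero]))⟩
  have hA : Ctr hF K a := SU3Max.Hess.ctr_of_one (hF := hF) rfl ha hk0 hk hXG hXv
  have horb : ∀ i j : Fin 3, Ctr hF K ((Xm ω ^ (i : ℕ) * Ym ^ (j : ℕ)) *ᵥ a) ∧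
      hh ((Xm ω ^ (i : ℕ) * Ym ^ (j : ℕ)) *ᵥ a) ((Xm ω ^ (i : ℕ) * Ym ^ (j : ℕ)) *ᵥ a) = 0 := by
    intro i j
    set S := sX h ^ (i : ℕ) * (sY : Matrix.SpecialLinearGroup (Fin 3) F) ^ (j : ℕ) with hS
    have hmem : tG S ∈ K := by
      have h1 : tG S ∈ G := by
        show Matrix.SpecialLinearGroup.toGL S ∈ G
        rw [hS, map_mul, map_pow, map_pow]
        exact mul_mem (pow_mem hG.X _) (pow_mem hG.Y _)
      exact ⟨h1, toGG S (hG.le h1)⟩
    have hv : (tG S).val = Xm ω ^ (i : ℕ) * Ym ^ (j : ℕ) := by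
      rw [tG_val, hS, CfsgLib.MaxSub.SLThree.Hess.val_mul, Matrix.SpecialLinearGroup.coe_pow,
        Matrix.SpecialLinearGroup.coe_pow]
      rfl
    rw [← hv]
    exact ⟨hA.conj hmem hmem.2, by rw [G_isometry hmem.2, ha]⟩
  -- a second centre
  obtain ⟨n, hn, hna⟩ : ∃ n : V, n ≠ 0 ∧ n ⬝ᵥ a = 0 := by
    by_cases h0 : a 0 = 0
    · exact ⟨Pi.single 0 1, by simp, by simp [h0]⟩
    · refine ⟨![a 1, -a 0, 0], fun e => h0 (by simpa using congrFun e 1), ?_⟩
      simp [dotProduct, Fin.sum_univ_three]; ring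
  obtain ⟨i, j, hb⟩ := orbit_ne h ha0 hn
  obtain ⟨hB, hbb⟩ := horb i j
  set b := (Xm ω ^ (i : ℕ) * Ym ^ (j : ℕ)) *ᵥ a
  have hab : hh a b ≠ 0 := fun e => by
    obtain ⟨c, hc⟩ := iso_prop (hF := hF) ha0 ha hbb e
    rw [hc, dotProduct_smul, hna, smul_zero] at hb
    exact hb rfl
  -- the pole
  set n' := crossProduct a b with hn'
  set c : V := fun l => σ (n' l) with hc
  have hcx : ∀ x, hh x c = n' ⬝ᵥ x := fun x => by
    rw [hh_dot (hF := hF), dotProduct_comm]
    congr 1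
    funext l
    rw [hc, frob_frob]
  have hac : hh a c = 0 := by rw [hcx, dotProduct_comm, hn', dot_self_cross]
  have hbc : hh b c = 0 := by rw [hcx, dotProduct_comm, hn', dot_cross_self]
  have hn'0 : n' ≠ 0 := fun e => by
    rw [hn'] at e
    refine crossProduct_ne_zero_iff_linearIndependent.2 ((LinearIndependent.pair_iff' ha0).2 fun r hr => hab ?_) e
    rw [← hr, h_smul_right hF, ha, mul_zero]
  have hc0 : c ≠ 0 := fun e => hn'0 (funext fun l => by simpa [hc] using congrFun e l)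
  have hcc : hh c c ≠ 0 := fun e => by
    obtain ⟨r, hr⟩ := iso_prop (hF := hF) hc0 e ha ((h_eq_zero_swap hF).1 hac)
    obtain ⟨s, hs⟩ := iso_prop (hF := hF) hc0 e hbb ((h_eq_zero_swap hF).1 hbc)
    refine hab ?_
    rw [hr, hs, h_smul_left, h_smul_right hF, e, mul_zero, mul_zero]
  -- a third centre
  obtain ⟨i', j', hx⟩ := orbit_ne h ha0 hn'0
  obtain ⟨hX0, hxx⟩ := horb i' j'
  have hle : GG ≤ K := top_of_line hp3 hcc ha hbb hab hac hbc hA hB hxx (by rw [hcx]; exact hx) hX0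
  intro S hS
  exact (hle (toGG S hS)).1

end CfsgLib.MaxSub.SUNine
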