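/-
An overgroup of the Hessian group in the unitary group: the large primes.
-/
import Cfsg.Agent.Lib.MaxSub.SUNine.Transvection
import Cfsg.Agent.Lib.MaxSub.SU3Max.Hess.Norm

set_option autoImplicit false
set_option maxHeartbeats 800000
set_option linter.unusedSectionVars false

namespace CfsgLib.MaxSub.SUNine

open Matrix CfsgLib.UnitaryTransvection
open CfsgLib.MaxSub.SLThree.Hess (Root Xm Ym sX sY sF sG px py pf pg E px_mem py_mem mem_E IsFrame Φ embSL)
open CfsgLib.MaxSub.SLNine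

universe u

variable {F : Type u} [Field F] [Fintype F] {ω : F} {p : ℕ} {hF : Fintype.card F = p ^ 2}

local notation "mk'" => CfsgLib.MaxSub.SLThree.Hess.mk
local notation "σ" => frob hF
local notation "SL" => Matrix.SpecialLinearGroup (Fin 3) F
local notation "P3" => Matrix.ProjectiveSpecialLinearGroup (Fin 3) F
local notation "GG" => Cfsg.GU 3 F p ⊓ Cfsg.Geo.specialLinear (Fin 3) F

/-- The alternative in the factor for `p` at least eleven. -/
theorem dich_large [Fact p.Prime] [CharP F p] (hp : p % 3 = 2) (hp5 : 5 < p) (h : Root ω) : Dich hF h := by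
  intro G hG
  by_cases hfull : Full hF G
  · exact Or.inl hfull
  refine Or.inr ?_
  set K := G.comap (Matrix.SpecialLinearGroup.toGL (n := Fin 3) (R := F)) with hK
  set Kp := K.map mk' with hKp
  have lift : ∀ A : SL, mk' A ∈ Kp → A ∈ K := by
    rintro A ⟨B, hB, e⟩
    have := K.mul_mem hB (center_le h (K := K) hG.X hG.Y (QuotientGroup.eq.1 e))
    rwa [mul_inv_cancel_left] at this
  have hKU : ∀ A ∈ K, tG A ∈ UG σ (Fin 3) := fun A hA => hG.le hA
  have hEK : E h ≤ Kp := fun e he => by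
    obtain ⟨i, j, rfl⟩ := (mem_E h).1 he
    have hx : px h ∈ Kp := ⟨sX h, hG.X, rfl⟩
    have hy : py ∈ Kp := ⟨sY, hG.Y, rfl⟩
    exact mul_mem (pow_mem hx _) (pow_mem hy _)
  have htop : Kp ≠ ⊤ := fun e => by
    let T : SL := ⟨!![1, 1, 0; 0, 1, 0; 0, 0, 1], by simp [Matrix.det_fin_three]⟩
    have hT := UG_cols (hKU T (lift T (by rw [e]; exact Subgroup.mem_top _))) 1 1
    simp only [tG_val] at hT
    simp [T, Fin.sum_univ_three] at hT
  refine nz_of_special h G hG.X hG.Y hG.f hG.g (SU3Max.Hess.normalises (p := p) hF hp5 hEK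
    ⟨sF h, hG.f, rfl⟩ ⟨sG h, hG.g, rfl⟩ htop ?_)
  intro P hP U U' hU hU' hne h1 h1'
  refine hfull fun S hS => ?_
  let Mg : Subgroup (GL (Fin 3) F) := K.map Matrix.SpecialLinearGroup.toGL
  have hMg : Mg ≤ GG := by
    rintro _ ⟨A, hA, rfl⟩
    exact ⟨(mem_GU_iff hF).2 (hKU A hA), MonoidHom.mem_ker.2 (Units.ext A.2)⟩
  obtain ⟨B, hB, e⟩ : tG S ∈ Mg := SU3Max.Hess.le_of_two_tv rfl (by omega) h hMg
    ⟨_, ⟨sX h, hG.X, rfl⟩, rfl⟩ hP hU hU' hne ⟨_, lift _ h1, rfl⟩ ⟨_, lift _ h1', rfl⟩ hF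
    ⟨(mem_GU_iff hF).2 hS, MonoidHom.mem_ker.2 (Units.ext S.2)⟩
  rw [← e]
  exact hB

end CfsgLib.MaxSub.SUNine
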