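/-
The engines of the unitary maximal subgroup theorems at dimension nine.
-/
import Cfsg.Agent.Lib.MaxSub.SubspaceMaximalUnitary
import Cfsg.Agent.Lib.MaxSub.WreathUnitary.Main
import Cfsg.Agent.Lib.MaxSub.ExtUnitary.Main
import Cfsg.Agent.Lib.MaxSub.SubfieldMaximalGU
import Cfsg.Agent.Lib.MaxSub.SubfieldMaximalOU
import Cfsg.Agent.Lib.MaxSub.TensorForm.Unitary

set_option autoImplicit false

namespace CfsgLib.MaxSub.SUNine

open Matrix Module Cfsg Cfsg.Geo

variable {F : Type*} [Field F] [Fintype F] {q : ℕ}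

local notation "h" => Cfsg.hermForm 9 F q
local notation "G" => Cfsg.GU 9 F q ⊓ specialLinear (Fin 9) F

theorem su9_singular_maximal (hF : Fintype.card F = q ^ 2) {W : Submodule F (Fin 9 → F)} (h0 : W ≠ ⊥)
    (hW : IsTotallySingularFor h W) : IsMaximalIn G (subspaceStabilizer W ⊓ G) :=
  CfsgLib.MaxSub.su_singular_maximal (by norm_num) hF h0 hW

theorem su9_nondegenerate_maximal (hF : Fintype.card F = q ^ 2) {W : Submodule F (Fin 9 → F)} (h0 : W ≠ ⊥)
    (hW : IsNondegenerateOn h W) (hd : 2 * finrank F W < 9) : IsMaximalIn G (subspaceStabilizer W ⊓ G) :=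
  CfsgLib.MaxSub.su_nondegenerate_maximal (by norm_num) hF h0 hW hd

theorem su9_frame_maximal (hF : Fintype.card F = q ^ 2) {D : Fin 9 → Submodule F (Fin 9 → F)}
    (hD : IsNondegenerateMDecomposition h 1 D) : IsMaximalIn G (decompositionStabilizer D ⊓ G) :=
  WreathUnitary.wreath_maximal hF (by norm_num) 1 D hD (by omega) (by omega)

theorem su9_threes_maximal (hF : Fintype.card F = q ^ 2) {D : Fin 3 → Submodule F (Fin 9 → F)}
    (hD : IsNondegenerateMDecomposition h 3 D) : IsMaximalIn G (decompositionStabilizer D ⊓ G) :=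
  WreathUnitary.wreath_maximal hF (by norm_num) 3 D hD (by omega) (by omega)

theorem su9_extField_maximal (hF : Fintype.card F = q ^ 2)
    {K : Subalgebra F (Matrix (Fin 9) (Fin 9) F)} (hK : IsFieldSubalgebra 3 K)
    (hKa : IsAdjointClosedFor h K) : IsMaximalIn G (subalgebraNormalizer K ⊓ G) :=
  ExtUnitary.ext_unitary_maximal hF Nat.prime_three (by decide) (by norm_num) (by norm_num)
    (Or.inl (by norm_num)) hK hKa

theorem su9_subfield_maximal (hF : Fintype.card F = q ^ 2) {F₀ : Subfield F} {r : ℕ} {P : GL (Fin 9) F}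
    (hr : r.Prime) (hro : Odd r) (hc : Fintype.card F = Nat.card F₀ ^ r)
    (hP : IsFormRationalStructure h F₀ 1 P) : IsMaximalIn G (subfieldSubgroup F₀ P ⊓ G) :=
  SubfieldGU.gu_subfield_maximal hF (by norm_num) hr hro hc hP

theorem su9_orthogonal_maximal (hF : Fintype.card F = q ^ 2) (hodd : Odd q) {F₀ : Subfield F}
    {P : GL (Fin 9) F} (hc : Fintype.card F = Nat.card F₀ ^ 2)
    (hP : IsFormRationalStructure h F₀ 1 P) : IsMaximalIn G (subfieldSubgroup F₀ P ⊓ G) :=
  SubfieldOU.ou_subfield_maximal (hF := hF) ⟨by norm_num, hodd, hc, hP⟩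

theorem su9_tensorWreath_maximal (hF : Fintype.card F = q ^ 2) (hq : 3 ≤ q)
    (e : Fin 9 ≃ (Fin 2 → Fin 3)) (P : GL (Fin 9) F) (f₁ : (Fin 3 → F) → (Fin 3 → F) → F)
    (h₁ : IsUnitaryFormPow q f₁) (hT : IsTensorPowerFormStructure (fun x : F => x ^ q) h f₁ e P) :
    IsMaximalIn G (tensorWreathSubgroup 3 2 e P ⊓ G) :=
  TensorForm.unitary_tensorWreath_maximal hF le_rfl le_rfl (by omega) e P f₁ h₁ hT

end CfsgLib.MaxSub.SUNine
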