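/-
The reflection centres over the field of twenty-five elements.
-/
import Mathlib.Data.ZMod.Basic
import Mathlib.Data.Fintype.Prod
import Mathlib.Tactic

set_option autoImplicit false

namespace CfsgLib.MaxSub.SUNine.FiveModel

/-- A number `a + b w` with `w * w = -1 - w`, coefficients modulo five. -/
abbrev K : Type := ZMod 5 × ZMod 5

/-- Multiplication. -/
def mu (x y : K) : K := (x.1 * y.1 - x.2 * y.2, x.1 * y.2 + x.2 * y.1 - x.2 * y.2)

/-- Conjugation. -/
def cj (x : K) : K := (x.1 - x.2, -x.2)

/-- A triple. -/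
abbrev T : Type := K × K × K

/-- The hermitian product. -/
def ip (u v : T) : K := mu u.1 (cj v.1) + mu u.2.1 (cj v.2.1) + mu u.2.2 (cj v.2.2)

/-- The cube roots of one. -/
def root : Fin 3 → K := ![(1, 0), (0, 1), (4, 4)]

/-- The twelve centres. -/
def centre : Fin 12 → T :=
  ![((1, 0), (0, 0), (0, 0)), ((0, 0), (1, 0), (0, 0)), ((0, 0), (0, 0), (1, 0)),
    ((1, 0), root 0, root 0), ((1, 0), root 0, root 1), ((1, 0), root 0, root 2),
    ((1, 0), root 1, root 0), ((1, 0), root 1, root 1), ((1, 0), root 1, root 2),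
    ((1, 0), root 2, root 0), ((1, 0), root 2, root 1), ((1, 0), root 2, root 2)]

/-- Proportional to a centre. -/
def isH (P : T) : Bool :=
  decide (∃ q : Fin 12, mu P.1 (centre q).2.1 = mu P.2.1 (centre q).1 ∧
    mu P.1 (centre q).2.2 = mu P.2.2 (centre q).1 ∧ mu P.2.1 (centre q).2.2 = mu P.2.2 (centre q).2.1)

/-- Tangency. -/
def tan (P Q : T) : Bool := decide (mu (ip P Q) (cj (ip P Q)) = mu (ip P P) (ip Q Q))

/-- The image of a centre under the reflection of a point, scaled. -/
def refl (e : Fin 3) (P Q : T) : T :=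
  let s := mu (root e - (1, 0)) (ip Q P)
  let n := ip P P
  (mu n Q.1 + mu s P.1, mu n Q.2.1 + mu s P.2.1, mu n Q.2.2 + mu s P.2.2)

/-- The alternatives for a point. -/
def Good (P : T) : Prop :=
  ip P P = 0 ∨ isH P = true ∨ (∃ q : Fin 12, tan P (centre q) = true) ∨
    ∃ (q : Fin 12) (e : Fin 3) (r : Fin 12), isH (refl e P (centre q)) = false ∧
      tan (refl e P (centre q)) (centre r) = true

instance (P : T) : Decidable (Good P) := by unfold Good; infer_instance

theorem good_two : Good ((0, 0), (0, 0), (1, 0)) := by decide +kernel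

theorem good_one : ∀ c : K, Good ((0, 0), (1, 0), c) := by decide +kernel

theorem good_zero : ∀ b c : K, Good ((1, 0), b, c) := by decide +kernel

end CfsgLib.MaxSub.SUNine.FiveModel
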