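/-
Two reflections of order three with tangent centres generate a transvection.
-/
import Cfsg.Agent.Lib.MaxSub.SUNine.Transvection

set_option autoImplicit false
set_option maxHeartbeats 800000
set_option linter.unusedSectionVars false

namespace CfsgLib.MaxSub.SUNine

open Matrix CfsgLib.UnitaryTransvection
open CfsgLib.MaxSub.SLThree.Hess (Root Xm Ym Fm sX sY sF sG)
open CfsgLib.MaxSub.SLNine
open CfsgLib.MaxSub.SU3Max

universe u

variable {F : Type u} [Field F] [Fintype F] {ω : F} {p : ℕ} {hF : Fintype.card F = p ^ 2} {h : Root ω}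

local notation "V" => Fin 3 → F
local notation "G3" => GL (Fin 3) F
local notation "Mn" => Matrix (Fin 3) (Fin 3) F
local notation "hh" => Cfsg.hermForm 3 F p
local notation "σ" => frob hF

variable {G : Subgroup (GL (Fin 3) F)}

theorem UG_iso {g : G3} (hg : g ∈ UG σ (Fin 3)) (u v : V) : hh (g.val *ᵥ u) (g.val *ᵥ v) = hh u v :=
  (mem_GU_iff hF).2 hg u v

/-- Conjugating the reflection. -/
theorem rr_conj (h : Root ω) {B : G3} (hB : B ∈ UG σ (Fin 3)) :
    (B * rr h * B⁻¹).val = 1 + (ω - 1) • vecMulVec (fun i => B.val i 0) (fun j => σ (B.val j 0)) := by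
  have hinv : (B⁻¹ : G3).val = (B.val.map σ)ᵀ := by
    refine Units.inv_eq_of_mul_eq_one_left ?_
    have := congrArg Matrix.transpose (mem_UG.1 hB)
    rwa [Matrix.transpose_mul, Matrix.transpose_transpose, Matrix.transpose_one] at this
  have hrow : ∀ i j, ∑ k, B.val i k * σ (B.val j k) = if i = j then 1 else 0 := fun i j => by
    have := congrFun (congrFun (Units.mul_inv B) i) j
    rw [hinv, Matrix.mul_apply, Matrix.one_apply] at this
    simpa using this
  ext i j
  rw [Units.val_mul, Units.val_mul, hinv, rr_val, Matrix.mul_apply, Matrix.add_apply, Matrix.one_apply,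
    Matrix.smul_apply, vecMulVec_apply, ← hrow i j]
  simp only [Matrix.mul_diagonal, Fin.sum_univ_three, Matrix.transpose_apply, Matrix.map_apply, smul_eq_mul]
  simp
  ring

/-- A centre tangent to one of the twelve. -/
theorem Gens.full_of_tangent [Fact p.Prime] [CharP F p] (hG : Gens hF h G) (hp : p % 3 = 2) (hp2 : p ≠ 2)
    {A g : G3} (hA : A ∈ G) (hg : g ∈ G)
    (ht : hh (A.val *ᵥ Pi.single 0 1) (g.val *ᵥ Pi.single 0 1) *
      σ (hh (A.val *ᵥ Pi.single 0 1) (g.val *ᵥ Pi.single 0 1)) = 1)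
    (hne : ¬ ∃ c : F, A.val *ᵥ Pi.single 0 1 = c • (g.val *ᵥ Pi.single 0 1)) : Full hF G := by
  set B := g⁻¹ * A with hBdef
  have hB : B ∈ G := mul_mem (inv_mem hg) hA
  have hgB : A.val *ᵥ Pi.single 0 1 = g.val *ᵥ (B.val *ᵥ Pi.single 0 1) := by
    rw [Matrix.mulVec_mulVec, ← Units.val_mul, hBdef, mul_inv_cancel_left]
  have h0 : hh (A.val *ᵥ Pi.single 0 1) (g.val *ᵥ Pi.single 0 1) = B.val 0 0 := by
    rw [hgB, UG_iso (hG.le hg), hh_dot (hF := hF)]
    simp [dotProduct, Fin.sum_univ_three]
  rw [h0] at ht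
  set l := B.val 0 0 with hl
  have hl0 : l ≠ 0 := fun e => by rw [e, zero_mul] at ht; exact zero_ne_one ht
  set x := B.val 1 0 / l with hx
  set y := B.val 2 0 / l with hy
  have hlx : B.val 1 0 = l * x := by rw [hx]; field_simp
  have hly : B.val 2 0 = l * y := by rw [hy]; field_simp
  have hxy : x * σ x + y * σ y = 0 := by
    have := UG_cols (hG.le hB) 0 0
    rw [if_pos rfl, Fin.sum_univ_three, hlx, hly, map_mul, map_mul, ← hl] at this
    linear_combination this - (1 + x * σ x + y * σ y) * ht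
  have hu : (![0, x, y] : V) ≠ 0 := by
    intro e
    refine hne ⟨l, ?_⟩
    have e1 : x = 0 := by simpa using congrFun e 1
    have e2 : y = 0 := by simpa using congrFun e 2
    rw [hgB, ← Matrix.mulVec_smul]
    congr 1
    funext a
    fin_cases a <;> simp [Matrix.mulVec_single_one, Matrix.col, hlx, hly, e1, e2, ← hl]
  have hw := SU3Max.Hess.frob_root hF h hp
  -- the unipotent element and its conjugate
  set M := B * rr h * B⁻¹ * (rr h)⁻¹ with hM
  set M' := rr h * M * (rr h)⁻¹ with hM'
  have hMG : M ∈ G := mul_mem (mul_mem (mul_mem hB hG.r) (inv_mem hB)) (inv_mem hG.r)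
  have hM'G : M' ∈ G := mul_mem (mul_mem hG.r hMG) (inv_mem hG.r)
  set al := ω - 1 with hal
  set be := ω * ω - 1 with hbe
  have hMv : M.val = !![1, al * σ x, al * σ y; -be * x, 1 + al * (x * σ x), al * (x * σ y);
      -be * y, al * (y * σ x), 1 + al * (y * σ y)] := by
    rw [hM, Units.val_mul, rr_conj h (hG.le hB)]
    show (1 + _) * Matrix.diagonal ![ω * ω, 1, 1] = _
    have := h.eq
    ext i j
    fin_cases i <;> fin_cases j <;>
      simp [Matrix.mul_diagonal, Matrix.one_apply, vecMulVec_apply, hlx, hly, ← hl, map_mul, hal, hbe] <;> grind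
  have hM'v : M'.val = !![1, ω * al * σ x, ω * al * σ y; -(ω * ω) * be * x, 1 + al * (x * σ x), al * (x * σ y);
      -(ω * ω) * be * y, al * (y * σ x), 1 + al * (y * σ y)] := by
    rw [hM', Units.val_mul, Units.val_mul, hMv, rr_val]
    show _ * Matrix.diagonal ![ω * ω, 1, 1] = _
    have := h.eq
    ext i j
    fin_cases i <;> fin_cases j <;> simp [Matrix.mul_diagonal, Matrix.diagonal_mul] <;> grind
  set k := 3 * (ω * ω - ω) with hk
  have hk0 : k ≠ 0 := mul_ne_zero h.three (fun e => h.sub_ne (by linear_combination -e))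
  have hkσ : k + σ k = 0 := by
    rw [hk, map_mul, map_sub, map_mul, hw, map_ofNat]
    linear_combination 3 * ω * h.cube
  refine hG.full_of_tv hp hp2 (X := M * M' * (M' * M)⁻¹) (a := ![0, x, y]) (k := k)
    (mul_mem (mul_mem hMG hM'G) (inv_mem (mul_mem hM'G hMG))) hu ?_ hk0 hkσ ?_
  · rw [hh_dot (hF := hF)]
    simpa [dotProduct, Fin.sum_univ_three] using hxy
  · have hT : Cfsg.unitaryTransvection 3 p ![0, x, y] k =
        !![1, 0, 0; 0, 1 + k * (x * σ x), k * (x * σ y); 0, k * (y * σ x), 1 + k * (y * σ y)] := by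
      have h0p : (0 : F) ^ p = 0 := zero_pow (Fact.out : p.Prime).ne_zero
      ext i j
      fin_cases i <;> fin_cases j <;>
        simp only [Cfsg.unitaryTransvection, Matrix.add_apply, Matrix.smul_apply, Matrix.vecMulVec_apply, Matrix.of_apply, Matrix.one_apply, smul_eq_mul] <;> simp [h0p, frob_apply] <;> ring
    have key : M.val * M'.val = Cfsg.unitaryTransvection 3 p ![0, x, y] k * (M'.val * M.val) := by
      rw [hMv, hM'v, hT]
      have := h.eq
      ext i j
      fin_cases i <;> fin_cases j <;>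
        simp [Matrix.mul_apply, Fin.sum_univ_three, hal, hbe, hk] <;> grind
    rw [Units.val_mul, Units.val_mul, key, mul_assoc, show (M'.val * M.val) * ((M' * M)⁻¹ : G3).val = 1 by
      rw [← Units.val_mul, Units.mul_inv], mul_one]

end CfsgLib.MaxSub.SUNine
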