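/-
An overgroup of the Hessian group in the unitary group over the field of twenty-five elements.
-/
import Cfsg.Agent.Lib.MaxSub.SUNine.Reflection
import Cfsg.Agent.Lib.MaxSub.SUNine.FiveModel

set_option autoImplicit false
set_option maxHeartbeats 800000
set_option linter.unusedSectionVars false

namespace CfsgLib.MaxSub.SUNine

open Matrix CfsgLib.UnitaryTransvection
open CfsgLib.MaxSub.SLThree.Hess (Root Xm Ym sX sY sF sG)
open CfsgLib.MaxSub.SLNine
open CfsgLib.MaxSub.SU3Max

universe u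

variable {F : Type u} [Field F] [Fintype F] {ω : F}

local notation "V" => Fin 3 → F
local notation "G3" => GL (Fin 3) F
local notation "hh" => Cfsg.hermForm 3 F 5
local notation "e0" => (Pi.single 0 1 : Fin 3 → F)

/-- Evaluation of the model. -/
noncomputable def ev [CharP F 5] (ω : F) (x : FiveModel.K) : F :=
  ZMod.castHom (dvd_refl 5) F x.1 + ZMod.castHom (dvd_refl 5) F x.2 * ω

/-- Evaluation of a triple. -/
noncomputable def evT [CharP F 5] (ω : F) (P : FiveModel.T) : Fin 3 → F := ![ev ω P.1, ev ω P.2.1, ev ω P.2.2]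

theorem cube_five : ∀ u : ZMod 5, u ^ 3 = 1 → u = 1 := by decide

theorem centre_ne : ∀ q : Fin 12, FiveModel.centre q ≠ 0 := by decide

theorem centre_affine : ∀ i j : Fin 3, ∃ q : Fin 12,
    FiveModel.centre q = ((1, 0), FiveModel.root i, FiveModel.root j) := by decide

theorem centre_cases : ∀ q : Fin 12, (∃ k : Fin 3, q = Fin.castLE (by norm_num) k) ∨
    ∃ i j : Fin 3, FiveModel.centre q = ((1, 0), FiveModel.root i, FiveModel.root j) := by decide

variable [Fact (Nat.Prime 5)] [CharP F 5] {hF : Fintype.card F = 5 ^ 2}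

local notation "σ" => frob hF

theorem ev_add (x y : FiveModel.K) : ev ω (x + y) = ev ω x + ev ω y := by
  simp only [ev, Prod.fst_add, Prod.snd_add, map_add]; ring

theorem ev_sub (x y : FiveModel.K) : ev ω (x - y) = ev ω x - ev ω y := by
  simp only [ev, Prod.fst_sub, Prod.snd_sub, map_sub]; ring

theorem ev_zero : ev ω ((0, 0) : FiveModel.K) = 0 := by simp [ev]

theorem ev_one : ev ω ((1, 0) : FiveModel.K) = 1 := by simp [ev]

theorem ev_mu (h : Root ω) (x y : FiveModel.K) : ev ω (FiveModel.mu x y) = ev ω x * ev ω y := by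
  simp only [ev, FiveModel.mu, map_add, map_sub, map_mul]
  have := h.eq
  grind

theorem ev_cj (h : Root ω) (x : FiveModel.K) : ev ω (FiveModel.cj x) = σ (ev ω x) := by
  have hc : ∀ a : ZMod 5, σ (ZMod.castHom (dvd_refl 5) F a) = ZMod.castHom (dvd_refl 5) F a := fun a => by
    rw [frob_apply, ← map_pow, ZMod.pow_card]
  simp only [ev, FiveModel.cj, map_sub, map_neg, map_add, map_mul, hc, SU3Max.Hess.frob_root hF h (by norm_num)]
  linear_combination -(ZMod.castHom (dvd_refl 5) F x.2) * h.eq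

theorem ev_injective (h : Root ω) : Function.Injective (ev ω : FiveModel.K → F) := by
  intro x y e
  have e' : ev ω (x - y) = 0 := by rw [ev_sub, e, sub_self]
  generalize hz : x - y = z at e'
  obtain ⟨a, b⟩ := z
  simp only [ev] at e'
  have hi : Function.Injective (ZMod.castHom (dvd_refl 5) F) := RingHom.injective _
  by_cases hb : b = 0
  · subst hb
    rw [map_zero, zero_mul, add_zero, ← map_zero (ZMod.castHom (dvd_refl 5) F)] at e'
    rw [hi e'] at hz
    exact sub_eq_zero.1 hz
  · exfalso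
    have hω : ω = ZMod.castHom (dvd_refl 5) F (-a / b) := by
      have hb' : ZMod.castHom (dvd_refl 5) F b ≠ 0 := (map_ne_zero _).2 hb
      rw [map_div₀, map_neg]
      field_simp
      linear_combination e'
    have h1 := cube_five
    refine h.ne_one ?_
    rw [hω, h1 (-a / b) (hi (by rw [map_pow, ← hω, h.cube, map_one])), map_one]

include hF in
theorem ev_surjective (h : Root ω) : Function.Surjective (ev ω : FiveModel.K → F) :=
  ((Fintype.bijective_iff_injective_and_card _).2
    ⟨ev_injective h, by rw [hF, Fintype.card_prod, ZMod.card]; rfl⟩).2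

theorem ev_root (h : Root ω) (e : Fin 3) : ev ω (FiveModel.root e) = ω ^ (e : ℕ) := by
  fin_cases e
  · simp [FiveModel.root, ev_one]
  · simp [FiveModel.root, ev]
  · have h5 : (5 : F) = 0 := by exact_mod_cast CharP.cast_eq_zero F 5
    have h4 : ZMod.castHom (dvd_refl 5) F (4 : ZMod 5) = (4 : F) := map_ofNat _ 4
    simp only [FiveModel.root, ev]
    simp [h4]
    linear_combination (1 + ω) * h5 - h.eq

include hF in
theorem ev_ip (h : Root ω) (P Q : FiveModel.T) : ev ω (FiveModel.ip P Q) = hh (evT ω P) (evT ω Q) := by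
  simp only [FiveModel.ip, ev_add, ev_mu h, ev_cj (hF := hF) h]
  rw [hh_dot (hF := hF)]
  simp [dotProduct, Fin.sum_univ_three, evT]

theorem evT_ne (h : Root ω) {P : FiveModel.T} (hP : P ≠ 0) : evT ω P ≠ 0 := by
  intro e
  refine hP ?_
  obtain ⟨a, b, c⟩ := P
  have z : ∀ x, ev ω x = 0 → x = ((0, 0) : FiveModel.K) := fun x e => ev_injective h (e.trans ev_zero.symm)
  have h0 := congrFun e 0; have h1 := congrFun e 1; have h2 := congrFun e 2
  simp [evT] at h0 h1 h2
  rw [z a h0, z b h1, z c h2]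
  rfl

/-- The centres in the model. -/
theorem hes_iff (h : Root ω) {v : V} :
    Hes ω v ↔ ∃ (q : Fin 12) (c : F), v = c • evT ω (FiveModel.centre q) := by
  have key := centre_affine
  constructor
  · rintro (⟨k, c, rfl⟩ | ⟨i, j, c, rfl⟩)
    · refine ⟨Fin.castLE (by norm_num) k, c, ?_⟩
      congr 1
      funext a
      fin_cases k <;> fin_cases a <;> simp [FiveModel.centre, evT, ev_zero, ev_one]
    · obtain ⟨q, hq⟩ := key i j
      refine ⟨q, c, ?_⟩
      rw [hq]
      simp only [evT, ev_one, ev_root h]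
  · rintro ⟨q, c, rfl⟩
    have key' := centre_cases
    rcases key' q with ⟨k, rfl⟩ | ⟨i, j, hq⟩
    · refine Or.inl ⟨k, c, ?_⟩
      congr 1
      funext a
      fin_cases k <;> fin_cases a <;> simp [FiveModel.centre, evT, ev_zero, ev_one]
    · refine Or.inr ⟨i, j, c, ?_⟩
      rw [hq]
      simp only [evT, ev_one, ev_root h]

theorem hes_of_isH (h : Root ω) {P : FiveModel.T} (hP : FiveModel.isH P = true) : Hes ω (evT ω P) := by
  obtain ⟨q, e1, e2, e3⟩ := of_decide_eq_true hP
  have ec : crossProduct (evT ω (FiveModel.centre q)) (evT ω P) = 0 := by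
    have f1 := congrArg (ev ω) e1
    have f2 := congrArg (ev ω) e2
    have f3 := congrArg (ev ω) e3
    simp only [ev_mu h] at f1 f2 f3
    rw [cross_apply]
    simp [evT]
    refine ⟨?_, ?_, ?_⟩ <;> grind
  by_contra hno
  refine crossProduct_ne_zero_iff_linearIndependent.2
    ((LinearIndependent.pair_iff' (evT_ne h (centre_ne q))).2 fun c e => hno ?_) ec
  exact (hes_iff h).2 ⟨q, c, e.symm⟩

theorem isH_of_hes (h : Root ω) {P : FiveModel.T} (hP : Hes ω (evT ω P)) : FiveModel.isH P = true := by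
  obtain ⟨q, c, e⟩ := (hes_iff h).1 hP
  have f0 := congrFun e 0; have f1 := congrFun e 1; have f2 := congrFun e 2
  simp [evT] at f0 f1 f2
  refine decide_eq_true ⟨q, ?_, ?_, ?_⟩ <;> refine ev_injective h ?_ <;> simp only [ev_mu h, f0, f1, f2] <;> ring

include hF in
theorem good_of_scale (h : Root ω) {v : V} (hv : v ≠ 0) :
    ∃ (P : FiveModel.T) (c : F), v = c • evT ω P ∧ FiveModel.Good P := by
  obtain ⟨b, hb⟩ := ev_surjective (hF := hF) h (v 1 / v 0)
  obtain ⟨c, hc⟩ := ev_surjective (hF := hF) h (v 2 / v 0)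
  obtain ⟨d, hd⟩ := ev_surjective (hF := hF) h (v 2 / v 1)
  by_cases h0 : v 0 = 0
  · by_cases h1 : v 1 = 0
    · refine ⟨_, v 2, ?_, FiveModel.good_two⟩
      funext a; fin_cases a <;> simp [evT, ev_zero, ev_one, h0, h1]
    · refine ⟨_, v 1, ?_, FiveModel.good_one d⟩
      funext a; fin_cases a <;> simp [evT, ev_zero, ev_one, h0, hd] <;> field_simp
  · refine ⟨_, v 0, ?_, FiveModel.good_zero b c⟩
    funext a; fin_cases a <;> simp [evT, ev_one, hb, hc] <;> field_simp

variable {G : Subgroup (GL (Fin 3) F)}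

theorem Gens.norm_one {h : Root ω} (hG : Gens hF h G) {A : G3} (hA : A ∈ G) :
    hh (A.val *ᵥ e0) (A.val *ᵥ e0) = 1 := by
  rw [UG_iso (hG.le hA), hh_dot (hF := hF)]
  simp [dotProduct, Fin.sum_univ_three]

/-- A tangency in the model gives the special unitary group. -/
theorem Gens.full_of_tan {h : Root ω} (hG : Gens hF h G) {A : G3} (hA : A ∈ G) {P : FiveModel.T} {c : F}
    (hc : A.val *ᵥ e0 = c • evT ω P) (hns : ¬ Hes ω (A.val *ᵥ e0)) {q : Fin 12}
    (ht : FiveModel.tan P (FiveModel.centre q) = true) : Full hF G := by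
  obtain ⟨g, hg, -, d, hd⟩ := hG.move ((hes_iff h).2 ⟨q, 1, (one_smul _ _).symm⟩)
  have ht' := congrArg (ev ω) (of_decide_eq_true ht)
  simp only [ev_mu h, ev_cj (hF := hF) h, ev_ip (hF := hF) h] at ht'
  rw [hd] at ht'
  have nA := hG.norm_one hA
  have ng := hG.norm_one hg
  refine hG.full_of_tangent (by norm_num) (by norm_num) hA hg ?_ ?_
  · simp only [h_smul_left, h_smul_right hF, map_mul, frob_frob hF, ng] at ht'
    rw [hc, h_smul_left, h_smul_right hF] at nA
    rw [hc, h_smul_left, map_mul]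
    have hd0 : d ≠ 0 := by
      rintro rfl
      rw [zero_smul] at hd
      exact evT_ne h (centre_ne q) hd
    have hd1 : σ d ≠ 0 := (map_ne_zero _).2 hd0
    refine mul_left_cancel₀ (mul_ne_zero hd0 hd1) ?_
    linear_combination (c * σ c) * ht' + (d * σ d) * nA
  · rintro ⟨t, ht⟩
    refine hns ((hes_iff h).2 ⟨q, t / d, ?_⟩)
    have hd0 : d ≠ 0 := by
      rintro rfl
      rw [zero_smul] at hd
      exact evT_ne h (centre_ne q) hd
    rw [hd, smul_smul, div_mul_cancel₀ _ hd0, ht]

/-- The alternative in the factor for `p = 5`. -/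
theorem dich_five (h : Root ω) : Dich hF h := by
  intro G hG
  by_cases hall : ∀ A ∈ G, Hes ω (A.val *ᵥ e0)
  · exact Or.inr (hG.nz_of_points hall)
  refine Or.inl ?_
  push Not at hall
  obtain ⟨A, hA, hns⟩ := hall
  have nA := hG.norm_one hA
  have hv0 : A.val *ᵥ e0 ≠ 0 := fun e => by
    rw [e, hh_dot (hF := hF), zero_dotProduct] at nA
    exact zero_ne_one nA
  obtain ⟨P, c, hc, hP⟩ := good_of_scale (hF := hF) h hv0
  rw [hc, h_smul_left, h_smul_right hF] at nA
  rcases hP with h0 | hH | ⟨q, ht⟩ | ⟨q, e, r, hnH, ht⟩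
  · exfalso
    have := congrArg (ev ω) h0
    rw [ev_ip (hF := hF) h, show ((0 : FiveModel.K)) = (0, 0) from rfl, ev_zero] at this
    rw [this, mul_zero, mul_zero] at nA
    exact zero_ne_one nA
  · refine absurd ?_ hns
    obtain ⟨q, d, hd⟩ := (hes_iff h).1 (hes_of_isH h hH)
    exact (hes_iff h).2 ⟨q, c * d, by rw [hc, hd, smul_smul]⟩
  · exact hG.full_of_tan hA hc hns ht
  obtain ⟨g, hg, -, d, hd⟩ := hG.move ((hes_iff h).2 ⟨q, 1, (one_smul _ _).symm⟩)
  set v := A.val *ᵥ e0 with hv
  set Mv : Matrix (Fin 3) (Fin 3) F := vecMulVec v (fun j => σ (v j)) with hMv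
  have hr : ((A * rr h * A⁻¹) ^ (e : ℕ) : G3).val = 1 + (ω ^ (e : ℕ) - 1) • Mv := by
    have hi : Mv * Mv = Mv := by
      rw [hMv, vecMulVec_mul_vecMulVec, dotProduct_comm]
      have : v ⬝ᵥ (fun j => σ (v j)) = 1 := by rw [← hh_dot (hF := hF)]; exact hG.norm_one hA
      rw [this, one_smul]
    have h1 : (A * rr h * A⁻¹ : G3).val = 1 + (ω - 1) • Mv := by
      rw [rr_conj h (hG.le hA)]
      simp only [hMv, hv, Matrix.mulVec_single_one]
      rfl
    fin_cases e
    · simp
    · simp [h1]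
    · show ((A * rr h * A⁻¹) ^ 2 : G3).val = 1 + (ω ^ 2 - 1) • Mv
      rw [pow_two, Units.val_mul, h1, add_mul, mul_add, mul_add, one_mul, one_mul, mul_one, Matrix.smul_mul,
        Matrix.mul_smul, hi, smul_smul, add_assoc, ← add_smul, ← add_smul]
      congr 2
      ring
  have hA'G : (A * rr h * A⁻¹) ^ (e : ℕ) * g ∈ G :=
    mul_mem (pow_mem (mul_mem (mul_mem hA hG.r) (inv_mem hA)) _) hg
  set n := ev ω (FiveModel.ip P P) with hn
  have hn0 : n ≠ 0 := fun h0 => by
    rw [hn, ev_ip (hF := hF) h] at h0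
    rw [h0, mul_zero, mul_zero] at nA
    exact zero_ne_one nA
  have hd0 : d ≠ 0 := by
    rintro rfl
    rw [zero_smul] at hd
    exact evT_ne h (centre_ne q) hd
  have hR : evT ω (FiveModel.refl e P (FiveModel.centre q)) =
      (n * d) • (((A * rr h * A⁻¹) ^ (e : ℕ) * g : G3).val *ᵥ e0) := by
    rw [Units.val_mul, hr, ← Matrix.mulVec_mulVec, Matrix.add_mulVec, Matrix.one_mulVec, Matrix.smul_mulVec, hMv,
      Matrix.vecMulVec_mulVec, op_smul_eq_smul, smul_add, smul_smul, smul_smul, dotProduct_comm,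
      ← hh_dot (hF := hF), hc]
    have hgq : ∀ a, d * (g.val *ᵥ e0) a = evT ω (FiveModel.centre q) a := fun a => by
      rw [hd, Pi.smul_apply, smul_eq_mul]
    have hip : ev ω (FiveModel.ip (FiveModel.centre q) P) = d * hh (g.val *ᵥ e0) (evT ω P) := by
      rw [ev_ip (hF := hF) h, hd, h_smul_left]
    have hrf : evT ω (FiveModel.refl e P (FiveModel.centre q)) = n • evT ω (FiveModel.centre q) +
        ((ω ^ (e : ℕ) - 1) * ev ω (FiveModel.ip (FiveModel.centre q) P)) • evT ω P := by
      funext a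
      fin_cases a <;>
        simp [FiveModel.refl, evT, hn, ev_add, ev_sub, ev_mu h, ev_root h, ev_one]
    rw [hn, ev_ip (hF := hF) h] at hrf
    rw [hrf, hn, ev_ip (hF := hF) h, ev_ip (hF := hF) h, hd, h_smul_left, h_smul_right hF]
    generalize hh (evT ω P) (evT ω P) = N at nA ⊢
    generalize hh (g.val *ᵥ e0) (evT ω P) = H1
    funext a
    simp only [Pi.smul_apply, Pi.add_apply, smul_eq_mul]
    linear_combination -(d * (ω ^ (e : ℕ) - 1) * H1 * evT ω P a) * nA
  have hnd : n * d ≠ 0 := mul_ne_zero hn0 hd0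
  refine hG.full_of_tan hA'G (P := FiveModel.refl e P (FiveModel.centre q)) (c := (n * d)⁻¹) ?_ ?_ ht
  · rw [hR, smul_smul, inv_mul_cancel₀ hnd, one_smul]
  · intro hH
    obtain ⟨q', t, hq'⟩ := (hes_iff h).1 hH
    have : FiveModel.isH (FiveModel.refl e P (FiveModel.centre q)) = true :=
      isH_of_hes h ((hes_iff h).2 ⟨q', n * d * t, by rw [hR, hq', smul_smul]⟩)
    rw [this] at hnH
    exact Bool.noConfusion hnH

end CfsgLib.MaxSub.SUNine
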