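/-
Elements of order three centralising one Fourier pair: odd characteristic, unitary case.
-/
import Cfsg.Agent.Lib.MaxSub.SUNine.Basic
import Cfsg.Agent.Lib.MaxSub.SLNine.Abelian
import Cfsg.Agent.Lib.UnitarySimple

set_option autoImplicit false
set_option maxHeartbeats 800000
set_option linter.unusedSectionVars false

namespace CfsgLib.MaxSub.SUNine

open Matrix CfsgLib.UnitaryTransvection
open CfsgLib.MaxSub.SLThree.Hess (Root Xm Ym Tm Fm sX sY sF sG sT px py E px_mem py_mem XY val_mul mk_eq_iff mk_eq_one comm_iff E_comm Fm_sq scalar_of_commXY)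
open CfsgLib.MaxSub.SLNine
open CfsgLib.MaxSub.TensorPow
open scoped commutatorElement

universe u

variable {F : Type u} [Field F] {ω : F}

local notation "mk'" => CfsgLib.MaxSub.SLThree.Hess.mk
local notation "G3" => GL (Fin 3) F
local notation "GT" => GL (Fin 2 → Fin 3) F
local notation "Mn" => Matrix (Fin 3) (Fin 3) F
local notation "MT" => Matrix (Fin 2 → Fin 3) (Fin 2 → Fin 3) F
local notation "SL" => Matrix.SpecialLinearGroup (Fin 3) F
local notation "P3" => Matrix.ProjectiveSpecialLinearGroup (Fin 3) F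

theorem comm_lift (h : Root ω) {A B : SL} (hA : (mk' A : P3) = mk' (sX h)) (hB : (mk' B : P3) = mk' sY) :
    A * B * A⁻¹ * B⁻¹ = sZ h := by
  obtain ⟨c, hc, rfl⟩ : ∃ c ∈ Subgroup.center SL, sX h * c = A :=
    ⟨(sX h)⁻¹ * A, QuotientGroup.eq.1 hA.symm, mul_inv_cancel_left _ _⟩
  obtain ⟨d, hd, rfl⟩ : ∃ d ∈ Subgroup.center SL, sY * d = B :=
    ⟨(sY : SL)⁻¹ * B, QuotientGroup.eq.1 hB.symm, mul_inv_cancel_left _ _⟩
  have e1 : ∀ w : SL, c * w = w * c := fun w => (Subgroup.mem_center_iff.1 hc w).symm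
  have e2 : ∀ w : SL, d * w = w * d := fun w => (Subgroup.mem_center_iff.1 hd w).symm
  have e : sX h * c * (sY * d) * (sX h * c)⁻¹ * ((sY : SL) * d)⁻¹ = sX h * sY * (sX h)⁻¹ * sY⁻¹ := by
    rw [_root_.mul_inv_rev, _root_.mul_inv_rev,
      show sX h * c * (sY * d) * (c⁻¹ * (sX h)⁻¹) * (d⁻¹ * sY⁻¹) =
        sX h * (c * (sY * d)) * c⁻¹ * ((sX h)⁻¹ * d⁻¹) * sY⁻¹ by simp only [mul_assoc], e1,
      show (sX h)⁻¹ * d⁻¹ = d⁻¹ * (sX h)⁻¹ from
        (Commute.inv_right (Commute.inv_left (e2 (sX h) : Commute d (sX h)))).eq.symm]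
    group
  rw [e]
  refine mul_inv_eq_iff_eq_mul.2 (mul_inv_eq_iff_eq_mul.2 (Subtype.ext ?_))
  rw [val_mul, val_mul, val_mul, show (sX h).1 * (sY : SL).1 = ω • ((sY : SL).1 * (sX h).1) from XY h]
  show _ = ω • (1 : Mn) * (sY : SL).1 * (sX h).1
  rw [Matrix.smul_mul, one_mul, Matrix.smul_mul]

/-- The signs are not among the normalising elements. -/
theorem sign_not_nz (h : Root ω) (h2 : (2 : F) ≠ 0) {A : G3} (hA : A.val = Matrix.diagonal ![-1, -1, 1]) :
    ¬ Nz h A := by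
  intro hN
  have hi : (A⁻¹ : G3).val = Matrix.diagonal ![-1, -1, 1] := by
    refine Units.inv_eq_of_mul_eq_one_left ?_
    rw [hA, Matrix.diagonal_mul_diagonal, ← Matrix.diagonal_one]
    congr 1; funext i; fin_cases i <;> simp
  have hc := E_comm h (py_mem h) hN.2
  rw [py, pconj_mk] at hc
  obtain ⟨c, hc3, hc⟩ := comm_iff.1 hc
  have e10 := congrFun (congrFun hc 2) 0
  have e21 := congrFun (congrFun hc 0) 1
  have hv : (sconj A (sY : SL)).1 = A.val * Ym * (A⁻¹ : G3).val := rfl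
  rw [hv, hA, hi] at e10 e21
  simp [sY, Ym, Matrix.mul_apply, Fin.sum_univ_three, Matrix.vecMul, dotProduct] at e10 e21
  have : c ^ 2 = 1 := by grind
  have hc1 : c = 1 := by linear_combination hc3 - c * this
  subst hc1
  grind

/-- No element acting by different scalars on the plane and the line normalises, up to sign. -/
theorem mix_nz (h : Root ω) (h2 : (2 : F) ≠ 0) {A : G3} {a b : F} (ha : a ≠ 0) (hb : b ≠ 0)
    (hA : A.val = a • PU + b • PP) (hN : Nz h A) : a ^ 2 = b ^ 2 := by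
  obtain ⟨e1, e2, e3, e4, e5⟩ := PU_PP (F := F) h2
  have hi : (A⁻¹ : G3).val = a⁻¹ • PU + b⁻¹ • PP := by
    refine Units.inv_eq_of_mul_eq_one_right ?_
    rw [hA, add_mul, mul_add, mul_add, Matrix.smul_mul, Matrix.smul_mul, Matrix.smul_mul, Matrix.smul_mul,
      Matrix.mul_smul, Matrix.mul_smul, Matrix.mul_smul, Matrix.mul_smul, e1, e2, e3, e4]
    simp [smul_smul, ha, hb, e5]
  have hc := E_comm h (px_mem h) hN.1
  rw [px, pconj_mk] at hc
  obtain ⟨c, -, hc⟩ := comm_iff.1 hc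
  have e00 := congrFun (congrFun hc 0) 0
  have e12 := congrFun (congrFun hc 1) 2
  have hv : (sconj A (sX h)).1 = A.val * Xm ω * (A⁻¹ : G3).val := rfl
  rw [hv, hA, hi] at e00 e12
  simp [sX, PU, PP, Xm, Tm, Matrix.mul_apply, Fin.sum_univ_three] at e00 e12
  field_simp at e00 e12
  have := h.eq
  have := h.three
  have := h.ne_one
  have := h.ne_zero
  have h4 : (4 : F) ≠ 0 := by rw [show (4 : F) = 2 * 2 by norm_num]; exact mul_ne_zero h2 h2
  have hc1 : c = 1 := by
    refine mul_left_cancel₀ h4 ?_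
    first | linear_combination -e00 | linear_combination e00
  subst hc1
  grind

/-- The element with two scalars. -/
noncomputable def mixU (h2 : (2 : F) ≠ 0) (a b : Fˣ) : GL (Fin 3) F where
  val := (a : F) • PU + (b : F) • PP
  inv := (a⁻¹ : F) • PU + (b⁻¹ : F) • PP
  val_inv := by
    obtain ⟨e1, e2, e3, e4, e5⟩ := PU_PP (F := F) h2
    simp [add_mul, mul_add, Matrix.smul_mul, Matrix.mul_smul, e1, e2, e3, e4, smul_smul, e5]
  inv_val := by
    obtain ⟨e1, e2, e3, e4, e5⟩ := PU_PP (F := F) h2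
    simp [add_mul, mul_add, Matrix.smul_mul, Matrix.mul_smul, e1, e2, e3, e4, smul_smul, e5]

theorem pair_scalar (h2 : (2 : F) ≠ 0) (a b : Fˣ) : (pairU h2 (scU a, scU b) : GT) = fu 0 (mixU h2 a b) := by
  refine Units.ext ?_
  rw [pairU_val, fu_val, scU_val, scU_val]
  show fa 0 PU * fa 1 ((a : F) • (1 : Mn)) + fa 0 PP * fa 1 ((b : F) • (1 : Mn)) = fa 0 ((a : F) • PU + (b : F) • PP)
  rw [map_add, map_smul, map_smul, map_smul, map_smul, map_one, Matrix.mul_smul, mul_one, Matrix.mul_smul, mul_one]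

variable [Fintype F] {p : ℕ} {hF : Fintype.card F = p ^ 2}

local notation "σ" => frob hF

theorem Dich.gens {h : Root ω} (hd : Dich hF h) {G : Subgroup G3} (hG : Gens hF h G) :
    Full hF G ∨ ∀ A ∈ G, Nz h A := hd G hG

/-- The subgroup of pairs, abstractly. -/
structure PairY (hF : Fintype.card F = p ^ 2) (h : Root ω) (Y : Subgroup (GL (Fin 3) F × GL (Fin 3) F)) : Prop where
  le : ∀ {a b : GL (Fin 3) F}, (a, b) ∈ Y → a ∈ UG (frob hF) (Fin 3) ∧ b ∈ UG (frob hF) (Fin 3)
  X : (tG (sX h), tG (sX h)) ∈ Y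
  Y' : (tG sY, tG sY) ∈ Y
  f : (tG (sF h), tG (sF h)) ∈ Y
  g : (tG (sG h), tG (sG h)) ∈ Y
  r : (rr h, rr h) ∈ Y
  sc1 : ∀ c : Fˣ, (scU c, 1) ∈ Y → (c : F) ^ 2 = 1
  sc2 : ∀ c : Fˣ, (1, scU c) ∈ Y → (c : F) ^ 2 = 1
  dd : ∀ d : GL (Fin 3) F, (d, d) ∈ Y → Nz h d

variable {h : Root ω} {Y : Subgroup (GL (Fin 3) F × GL (Fin 3) F)}

theorem PairY.swap (P : PairY hF h Y) :
    PairY hF h (Y.comap (MulEquiv.prodComm (M := G3) (N := G3)).toMonoidHom) where
  le := fun hab => (P.le hab).symm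
  X := P.X
  Y' := P.Y'
  f := P.f
  g := P.g
  r := P.r
  sc1 := fun c hc => P.sc2 c hc
  sc2 := fun c hc => P.sc1 c hc
  dd := fun d hd => P.dd d hd

theorem PairY.gens_fst (P : PairY hF h Y) : Gens hF h (Y.map (MonoidHom.fst G3 G3)) where
  le := by rintro _ ⟨⟨a, b⟩, hab, rfl⟩; exact (P.le hab).1
  X := ⟨_, P.X, rfl⟩
  Y := ⟨_, P.Y', rfl⟩
  f := ⟨_, P.f, rfl⟩
  g := ⟨_, P.g, rfl⟩
  r := ⟨_, P.r, rfl⟩

theorem PairY.gens_snd (P : PairY hF h Y) : Gens hF h (Y.map (MonoidHom.snd G3 G3)) where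
  le := by rintro _ ⟨⟨a, b⟩, hab, rfl⟩; exact (P.le hab).2
  X := ⟨_, P.X, rfl⟩
  Y := ⟨_, P.Y', rfl⟩
  f := ⟨_, P.f, rfl⟩
  g := ⟨_, P.g, rfl⟩
  r := ⟨_, P.r, rfl⟩

theorem scalar_mk {W : SL} (hW : (mk' W : P3) = 1) : ∃ c : Fˣ, (c : F) ^ 3 = 1 ∧ tG W = scU c := by
  obtain ⟨c, hc, e⟩ := mk_eq_one.1 hW
  have hc0 : c ≠ 0 := fun e0 => by rw [e0] at hc; simp at hc
  exact ⟨Units.mk0 c hc0, hc, Units.ext (by rw [tG_val, scU_val, e]; rfl)⟩

/-- The kernel of a projection is `± 1`. -/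
theorem PairY.kernel [Fact p.Prime] [CharP F p] (P : PairY hF h Y) (hp2 : p ≠ 2) (hd : Dich hF h) {b : G3}
    (hb : (1, b) ∈ Y) : ∃ c : Fˣ, (c : F) ^ 2 = 1 ∧ b = scU c := by
  set K := Y.comap (MonoidHom.inr G3 G3) with hKdef
  have hKmem : ∀ {x : G3}, x ∈ K ↔ ((1, x) : G3 × G3) ∈ Y := Iff.rfl
  set KS := K.comap (Matrix.SpecialLinearGroup.toGL (n := Fin 3) (R := F)) with hKS
  set G2 := Y.map (MonoidHom.snd G3 G3) with hG2
  have hnorm : ∀ g ∈ G2, ∀ x ∈ K, g * x * g⁻¹ ∈ K := by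
    rintro _ ⟨⟨a, g⟩, hag, rfl⟩ x hx
    have := Y.mul_mem (Y.mul_mem hag (hKmem.1 hx)) (Y.inv_mem hag)
    rwa [Prod.mk_mul_mk, Prod.inv_mk, Prod.mk_mul_mk, mul_one, mul_inv_cancel] at this
  have hom : sZ h ∉ KS := fun hz => by
    have e : tG (sZ h) = scU (Units.mk0 ω h.ne_zero) := Units.ext (by rw [tG_val, scU_val]; rfl)
    have hm : ((1, tG (sZ h)) : G3 × G3) ∈ Y := hz
    rw [e] at hm
    have h1 : ω ^ 2 = 1 := P.sc2 _ hm
    exact h.sq_ne (by rw [← h1, pow_two])
  -- commutators with the generators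
  have comm : ∀ x ∈ K, ∀ U : SL, tG U ∈ G2 → sconj x U * U⁻¹ ∈ KS := by
    intro x hx U hU
    show tG (sconj x U * U⁻¹) ∈ K
    rw [tG_mul, tG_sconj, tG_inv, show x * tG U * x⁻¹ * (tG U)⁻¹ = x * (tG U * x⁻¹ * (tG U)⁻¹) by group]
    exact K.mul_mem hx (hnorm _ hU _ (K.inv_mem hx))
  have lifts : ∀ {A B : SL}, A ∈ KS → (mk' A : P3) = mk' (sX h) → tG B ∈ G2 → (mk' B : P3) = mk' sY → False := by
    intro A B hA eA hB eB
    refine hom ?_
    rw [← comm_lift h eA eB]
    have : B * A⁻¹ * B⁻¹ ∈ KS := by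
      show tG (B * A⁻¹ * B⁻¹) ∈ K
      rw [tG_mul, tG_mul, tG_inv, tG_inv]
      exact hnorm _ hB _ (K.inv_mem hA)
    have := KS.mul_mem hA this
    rwa [← mul_assoc, ← mul_assoc] at this
  have hX2 : tG (sX h) ∈ G2 := P.gens_snd.X
  have hY2 : tG (sY : SL) ∈ G2 := P.gens_snd.Y
  by_cases hall : ∀ x ∈ K, Nz h x
  · have KR : ∀ T ∈ R1 h, T ∈ KS → T = 1 := by
      intro T hT hTK
      by_cases hne : (mk' T : P3) = 1
      · obtain ⟨c, hc3, e⟩ := scalar_mk hne
        have h1 : (c : F) ^ 2 = 1 := P.sc2 c (by rw [← e]; exact hTK)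
        have : (c : F) = 1 := by linear_combination hc3 - (c : F) * h1
        refine Matrix.SpecialLinearGroup.toGL_injective ?_
        show tG T = _
        rw [e, show c = 1 from Units.ext this, map_one, map_one]
      · exfalso
        have hQ : ∀ q ∈ Qs h, tG q ∈ G2 := fun q hq =>
          ((Subgroup.closure_le (K := G2.comap Matrix.SpecialLinearGroup.toGL)).2 (by
            rintro _ (rfl | rfl)
            exacts [P.gens_snd.f, P.gens_snd.g])) hq
        obtain ⟨⟨A, hA, eA⟩, -⟩ := full_of_inv h (K := KS) (fun q hq S hS => by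
          show tG (q * S * q⁻¹) ∈ K
          rw [tG_mul, tG_mul, tG_inv]
          exact hnorm _ (hQ q hq) _ hS) hTK hT hne
        exact lifts hA eA hY2 rfl
    have hcomm : ∀ U : SL, tG U ∈ G2 → U ∈ R1 h → b * tG U = tG U * b := by
      intro U hU hUR
      have hR : sconj b U * U⁻¹ ∈ R1 h := by
        refine mul_mem (mem_R1_of_mk h ?_) (inv_mem hUR)
        rw [← pconj_mk]
        exact (hall b hb).map (R1_mk h hUR)
      have := congrArg tG (KR _ hR (comm b hb U hU))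
      rw [tG_mul, tG_sconj, tG_inv, tG_one] at this
      exact mul_inv_eq_iff_eq_mul.1 (mul_inv_eq_one.1 this)
    have e := scalar_of_commXY h (congrArg Units.val (hcomm _ hX2 (sX_mem h)))
      (congrArg Units.val (hcomm _ hY2 (sY_mem h)))
    have h0 : b.val 0 0 ≠ 0 := fun h0 => by
      rw [h0, zero_smul] at e
      exact b.isUnit.ne_zero e
    have hb' : b = scU (Units.mk0 _ h0) := Units.ext (by rw [scU_val]; exact e)
    refine ⟨_, P.sc2 _ ?_, hb'⟩
    rw [← hb']
    exact hb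
  · exfalso
    simp only [not_forall] at hall
    obtain ⟨x, hx, hns⟩ := hall
    rcases hd.gens P.gens_snd with hfull | hnz
    swap
    · exact hns (hnz x ⟨(1, x), hx, rfl⟩)
    have toSU : ∀ W : SL, tG W ∈ UG σ (Fin 3) → W ∈ Cfsg.SU 3 F p := fun W hW =>
      (mem_GU_iff hF).2 hW
    have hSU : ∀ W : Cfsg.SU 3 F p, tG W.1 ∈ G2 := fun W => hfull W.1 ((mem_GU_iff hF).1 W.2)
    let K' : Subgroup (Cfsg.SU 3 F p) := KS.subgroupOf (Cfsg.SU 3 F p)
    haveI : K'.Normal := ⟨fun W hW S => by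
      show tG (S * W * S⁻¹ : Cfsg.SU 3 F p).1 ∈ K
      rw [Subgroup.coe_mul, Subgroup.coe_mul, Subgroup.coe_inv, tG_mul, tG_mul, tG_inv]
      exact hnorm _ (hSU S) _ hW⟩
    haveI := UnitarySimple.simple (n := 3) hF le_rfl (fun e => hp2 e.2)
    have hXu : sX h ∈ Cfsg.SU 3 F p := toSU _ (P.le P.X).1
    have hYu : (sY : SL) ∈ Cfsg.SU 3 F p := toSU _ (P.le P.Y').1
    have central : ∀ W : Cfsg.SU 3 F p, W ∈ Subgroup.center (Cfsg.SU 3 F p) → (mk' W.1 : P3) = 1 := by
      intro W hW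
      have c1 := congrArg (fun z => z.1.1) (Subgroup.mem_center_iff.1 hW ⟨_, hXu⟩)
      have c2 := congrArg (fun z => z.1.1) (Subgroup.mem_center_iff.1 hW ⟨_, hYu⟩)
      simp only [Subgroup.coe_mul, val_mul] at c1 c2
      have e := scalar_of_commXY h c1.symm c2.symm
      refine mk_eq_one.2 ⟨W.1.1 0 0, ?_, e⟩
      have := W.1.2
      rwa [e, Matrix.det_smul, Matrix.det_one, mul_one, Fintype.card_fin] at this
    rcases (Subgroup.Normal.map (H := K') inferInstance (QuotientGroup.mk' _)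
      (QuotientGroup.mk'_surjective (Subgroup.center (Cfsg.SU 3 F p)))).eq_bot_or_eq_top with hb' | ht
    · refine hns ?_
      have fix' : ∀ U : SL, tG U ∈ G2 → U ∈ Cfsg.SU 3 F p → pconj x (mk' U) = mk' U := by
        intro U hU hUu
        have hW := comm x hx U hU
        have hWu : sconj x U * U⁻¹ ∈ Cfsg.SU 3 F p := toSU _ (P.le (hKmem.1 hW)).2
        have hm : (QuotientGroup.mk' (Subgroup.center (Cfsg.SU 3 F p)) ⟨_, hWu⟩) ∈
            K'.map (QuotientGroup.mk' _) := ⟨_, hW, rfl⟩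
        rw [hb', Subgroup.mem_bot] at hm
        have := central _ ((QuotientGroup.eq_one_iff _).1 hm)
        rw [map_mul, map_inv, mul_inv_eq_one] at this
        rw [pconj_mk]
        exact this
      exact ⟨by rw [px, fix' _ hX2 hXu]; exact px_mem h, by rw [py, fix' _ hY2 hYu]; exact py_mem h⟩
    · have lift : ∀ U : Cfsg.SU 3 F p, ∃ A ∈ KS, (mk' A : P3) = mk' U.1 := fun U => by
        obtain ⟨T, hT, e⟩ : QuotientGroup.mk' (Subgroup.center (Cfsg.SU 3 F p)) U ∈ K'.map (QuotientGroup.mk' _) := by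
          rw [ht]; exact Subgroup.mem_top _
        refine ⟨T.1, hT, ?_⟩
        have := central _ (QuotientGroup.eq.1 e)
        rwa [Subgroup.coe_mul, Subgroup.coe_inv, map_mul, map_inv, inv_mul_eq_one] at this
      obtain ⟨A, hA, eA⟩ := lift ⟨_, hXu⟩
      exact lifts hA eA hY2 rfl

/-- Neither projection is big. -/
theorem PairY.not_full [Fact p.Prime] [CharP F p] (P : PairY hF h Y) (hp2 : p ≠ 2) (hd : Dich hF h)
    (h2 : (2 : F) ≠ 0) (hfull : Full hF (Y.map (MonoidHom.fst G3 G3))) : False := by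
  let s : SL := ⟨Matrix.diagonal ![1, -1, -1], by simp [Fin.prod_univ_three]⟩
  obtain ⟨⟨a, b⟩, hab, rfl : a = tG s⟩ := hfull s (diag_UG (d := ![1, -1, -1]) rfl fun i => by
    fin_cases i <;> simp)
  have hc : ∀ U : SL, ((tG U, tG U) : G3 × G3) ∈ Y → s * U = U * s → b * tG U = tG U * b := by
    intro U hU hsU
    have hm := Y.mul_mem (Y.mul_mem (Y.mul_mem hab hU) (Y.inv_mem hab)) (Y.inv_mem hU)
    rw [Prod.mk_mul_mk, Prod.inv_mk, Prod.mk_mul_mk, Prod.inv_mk, Prod.mk_mul_mk, ← map_mul, hsU,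
      map_mul, mul_inv_cancel_right, mul_inv_cancel] at hm
    obtain ⟨c, hc2, e⟩ := P.kernel hp2 hd hm
    have hdet := congrArg (fun z : G3 => z.val.det) e
    simp only at hdet
    rw [show b * tG U * b⁻¹ * (tG U)⁻¹ = tG (sconj b U * U⁻¹) by rw [tG_mul, tG_sconj, tG_inv], tG_val,
      (sconj b U * U⁻¹).2, scU_val, Matrix.det_smul, Matrix.det_one, mul_one, Fintype.card_fin] at hdet
    have : (c : F) = 1 := by linear_combination -hdet - (c : F) * hc2
    rw [show c = 1 from Units.ext this, map_one] at e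
    exact mul_inv_eq_iff_eq_mul.1 (mul_inv_eq_one.1 e)
  have cX := congrArg Units.val (hc _ P.X (Subtype.ext (by
    rw [val_mul, val_mul]; show Matrix.diagonal _ * Xm ω = Xm ω * Matrix.diagonal _
    rw [Xm, Matrix.diagonal_mul_diagonal, Matrix.diagonal_mul_diagonal]
    congr 1; funext i; exact mul_comm _ _)))
  have hT : ((tG (sT : SL), tG sT) : G3 × G3) ∈ Y := by
    have := Y.mul_mem P.f P.f
    rwa [Prod.mk_mul_mk, ← map_mul, show sF h * sF h = (sT : SL) from Subtype.ext (Fm_sq h)] at this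
  have cT := congrArg Units.val (hc _ hT (Subtype.ext (by
    rw [val_mul, val_mul]; show Matrix.diagonal _ * Tm = Tm * Matrix.diagonal _
    ext i j; fin_cases i <;> fin_cases j <;> simp [Tm])))
  rw [Units.val_mul, Units.val_mul, tG_val] at cX cT
  have hdg := CfsgLib.MaxSub.SLThree.Hess.diag_of_commX h cX
  obtain ⟨β, γ, hbv⟩ : ∃ β γ : F, b.val = Matrix.diagonal ![β, γ, γ] := by
    refine ⟨b.val 0 0, b.val 1 1, ?_⟩
    have e21 := congrFun (congrFun cT 2) 1
    rw [hdg] at e21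
    simp [sT, Tm, Matrix.mul_apply, Fin.sum_univ_three] at e21
    conv_lhs => rw [hdg]
    congr 1
    funext i
    fin_cases i <;> simp [e21]
  have hsq : β ^ 2 = γ ^ 2 := by
    have hss : s * s = 1 := Subtype.ext (by
      rw [val_mul]; show Matrix.diagonal _ * Matrix.diagonal _ = 1
      rw [Matrix.diagonal_mul_diagonal, ← Matrix.diagonal_one]
      congr 1; funext i; fin_cases i <;> simp)
    have hm := Y.mul_mem hab hab
    rw [Prod.mk_mul_mk, ← map_mul, hss, map_one] at hm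
    obtain ⟨c, -, e⟩ := P.kernel hp2 hd hm
    have e' := congrArg Units.val e
    rw [Units.val_mul, hbv, Matrix.diagonal_mul_diagonal, scU_val] at e'
    have e00 := congrFun (congrFun e' 0) 0
    have e11 := congrFun (congrFun e' 1) 1
    simp at e00 e11
    linear_combination e00 - e11
  have hβ : β ≠ 0 := fun e => by
    have := (Matrix.isUnit_iff_isUnit_det _).1 b.isUnit
    rw [hbv, Matrix.det_diagonal, Fin.prod_univ_three] at this
    simp [e] at this
  -- the commutator with the cycle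
  set d : SL := s * sY * s⁻¹ * sY⁻¹ with hd'
  have hdv : (tG d).val = Matrix.diagonal ![-1, -1, 1] := by
    have e : d.1 * (sY * s : SL).1 = Matrix.diagonal ![-1, -1, 1] * (sY * s : SL).1 := by
      rw [← val_mul, hd', show s * sY * s⁻¹ * sY⁻¹ * (sY * s) = s * sY by group, val_mul, val_mul]
      ext i j
      fin_cases i <;> fin_cases j <;> simp [s, sY, Ym, Matrix.mul_apply, Fin.sum_univ_three, Matrix.vecMul, dotProduct]
    have := congrArg (fun z => z * ((sY * s : SL)⁻¹).1) e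
    simp only [mul_assoc, ← val_mul, mul_inv_cancel, mul_one] at this
    simpa using this
  have hm : ((tG d, b * tG sY * b⁻¹ * (tG sY)⁻¹) : G3 × G3) ∈ Y := by
    have := Y.mul_mem (Y.mul_mem (Y.mul_mem hab P.Y') (Y.inv_mem hab)) (Y.inv_mem P.Y')
    rwa [hd', tG_mul, tG_mul, tG_mul, tG_inv, tG_inv]
  rcases sq_eq_sq_iff_eq_or_eq_neg.1 hsq with e | e
  · -- the second component is scalar
    have hb1 : b * tG sY = tG sY * b := Units.ext (by
      rw [Units.val_mul, Units.val_mul, hbv, ← e]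
      ext i j
      fin_cases i <;> fin_cases j <;> simp [sY, Ym, Matrix.mul_apply, Fin.sum_univ_three] <;> ring)
    rw [hb1, mul_inv_cancel_right, mul_inv_cancel] at hm
    obtain ⟨c, -, hcv⟩ := P.swap.kernel hp2 hd (show ((1, tG d) : G3 × G3) ∈
      Y.comap (MulEquiv.prodComm (M := G3) (N := G3)).toMonoidHom from hm)
    have e' := congrArg Units.val hcv
    rw [hdv, scU_val] at e'
    have e00 := congrFun (congrFun e' 0) 0
    have e22 := congrFun (congrFun e' 2) 2
    simp at e00 e22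
    exact h2 (by linear_combination e22 - e00)
  · have hb1 : b * tG sY * b⁻¹ = tG (s * sY * s⁻¹) := by
      rw [mul_inv_eq_iff_eq_mul]
      refine Units.ext ?_
      have hs : b.val = β • s.1 := by
        rw [hbv]
        show _ = β • Matrix.diagonal _
        rw [← Matrix.diagonal_smul]
        congr 1; funext i; fin_cases i <;> simp [e]
      rw [Units.val_mul, Units.val_mul, tG_val, tG_val, hs, Matrix.smul_mul, Matrix.mul_smul, ← val_mul, ← val_mul,
        inv_mul_cancel_right]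
    rw [hb1, ← tG_inv, ← tG_mul, ← hd'] at hm
    exact sign_not_nz h h2 hdv (P.dd _ hm)

/-- The centraliser hypothesis in odd characteristic. -/
theorem centThree_odd [Fact p.Prime] [CharP F p] {H : Subgroup GT} (N : HasU hF h H) (hb : NotBig h H)
    (hd : Dich hF h) (hp2 : p ≠ 2) : CentThree h H := by
  intro z hz hzF hzG h3 hj
  have h2 : (2 : F) ≠ 0 := fun e => by
    have hdv := (CharP.cast_eq_zero_iff F p 2).1 (by exact_mod_cast e)
    exact hp2 ((Nat.prime_dvd_prime_iff_eq (Fact.out : p.Prime) Nat.prime_two).1 hdv)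
  obtain ⟨a, b, rfl⟩ := exists_pairU h h2 hzF hzG
  set Y := H.comap (pairU h2) with hY
  have diag : ∀ g : G3, fu (1 : Fin 2) g ∈ H → ((g, g) : G3 × G3) ∈ Y := fun g hg => by
    show pairU h2 _ ∈ H
    rwa [pairU_diag]
  have P : PairY hF h Y :=
    { le := fun {x y} hxy => by
        have hU := mem_UG.1 (N.le hxy)
        have hσ : (PU : Mn).map σ = PU ∧ (PP : Mn).map σ = PP ∧ (PU : Mn)ᵀ = PU ∧ (PP : Mn)ᵀ = PP := by
          refine ⟨?_, ?_, ?_, ?_⟩ <;> ext i j <;> fin_cases i <;> fin_cases j <;>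
            simp [PU, PP, Tm, map_inv₀, map_ofNat]
        have e : ((pairU h2 (x, y) : GT).val)ᵀ * (pairU h2 (x, y) : GT).val.map σ =
            pairMat (x.valᵀ * x.val.map σ) (y.valᵀ * y.val.map σ) := by
          rw [← pairMat_mul h2, pairU_val]
          congr 1
          · rw [pairMat, pairMat, Matrix.transpose_add, Matrix.transpose_mul, Matrix.transpose_mul, fa_transpose,
              fa_transpose, fa_transpose, fa_transpose, hσ.2.2.1, hσ.2.2.2,
              (fa_commute (by decide : (1 : Fin 2) ≠ 0) x.valᵀ PU).eq,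
              (fa_commute (by decide : (1 : Fin 2) ≠ 0) y.valᵀ PP).eq]
          · rw [pairMat, pairMat, Matrix.map_add _ (map_add σ), Matrix.map_mul, Matrix.map_mul, fa_map, fa_map,
              fa_map, fa_map, hσ.1, hσ.2.1]
        rw [e, show (1 : MT) = pairMat 1 1 by rw [pairMat_diag h2, map_one]] at hU
        exact pairMat_inj h2 hU
      X := diag _ (N.swap N.X)
      Y' := diag _ (N.swap N.Y)
      f := diag _ (N.swap N.f)
      g := diag _ (N.swap N.g)
      r := diag _ (N.swap N.r)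
      sc1 := fun c hc => by
        have hm : pairU h2 (scU c, scU 1) ∈ H := by rw [map_one scU]; exact hc
        rw [pair_scalar] at hm
        have := mix_nz h h2 c.ne_zero (one_ne_zero) (A := mixU h2 c 1) (by simp [mixU])
          (hb _ 1 (by rw [map_one, one_mul]; exact hm))
        simpa using this
      sc2 := fun c hc => by
        have hm : pairU h2 (scU 1, scU c) ∈ H := by rw [map_one scU]; exact hc
        rw [pair_scalar] at hm
        have := mix_nz h h2 one_ne_zero c.ne_zero (A := mixU h2 1 c) (by simp [mixU])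
          (hb _ 1 (by rw [map_one, one_mul]; exact hm))
        simpa using this.symm
      dd := fun d hdd => hb.one N.toHasN (c := 1) (by rw [map_one, one_mul, ← pairU_diag h2]; exact hdd) }
  have hnz : ∀ {x y : G3}, (x, y) ∈ Y → Nz h x ∧ Nz h y := by
    intro x y hxy
    constructor
    · rcases hd.gens P.gens_fst with hf | hn
      · exact (P.not_full hp2 hd h2 hf).elim
      · exact hn x ⟨_, hxy, rfl⟩
    · rcases hd.gens P.swap.gens_fst with hf | hn
      · exact (P.swap.not_full hp2 hd h2 hf).elim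
      · exact hn y ⟨(y, x), hxy, rfl⟩
  obtain ⟨ha, hb'⟩ := hnz hz
  have h3' := pairU_injective h2 (show pairU h2 ((a, b) * ((a, b) * (a, b))) = pairU h2 1 by
    rw [map_mul, map_mul, h3, map_one])
  rw [Prod.mk_mul_mk, Prod.mk_mul_mk, Prod.mk_eq_one] at h3'
  have hcT : Commute (fu (0 : Fin 2) (tG (sT : SL))) (pairU h2 (a, b)) := by
    rw [← show sF h * sF h = (sT : SL) from Subtype.ext (Fm_sq h), tG_mul, map_mul]
    exact (Commute.mul_right hzF hzF).symm
  have hinv := pairU_injective h2 (show pairU h2 ((tG sT, tG sT) * (a, b) * (tG sT, tG sT)⁻¹) =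
      pairU h2 (a, b)⁻¹ by
    rw [map_mul, map_mul, map_inv, map_inv, pairU_diag, ← hj,
      show (jj : GT) = fu 0 (tG sT) * fu 1 (tG sT) from Units.ext rfl, fu_comm, _root_.mul_inv_rev,
      show fu (1 : Fin 2) (tG (sT : SL)) * fu 0 (tG sT) * pairU h2 (a, b) * ((fu 0 (tG sT))⁻¹ * (fu 1 (tG sT))⁻¹)
        = fu 1 (tG sT) * (fu 0 (tG sT) * pairU h2 (a, b) * (fu 0 (tG sT))⁻¹) * (fu 1 (tG sT))⁻¹ by
          simp only [mul_assoc], hcT.eq, mul_inv_cancel_right])
  rw [Prod.mk_mul_mk, Prod.inv_mk, Prod.mk_mul_mk, Prod.inv_mk, Prod.mk.injEq] at hinv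
  obtain ⟨S, hS, rfl⟩ := R1_of_inR h (inR_of_inverted h h3'.1 ha hinv.1)
  obtain ⟨S', -, rfl⟩ := R1_of_inR h (inR_of_inverted h h3'.2 hb' hinv.2)
  refine ⟨S, hS, ?_⟩
  have d : ((tG S, tG S) : G3 × G3) ∈ Y := diag _
    ((Subgroup.closure_le (K := H.comap ((fu (1 : Fin 2)).comp Matrix.SpecialLinearGroup.toGL))).2 (by
      rintro _ (rfl | rfl)
      exacts [N.swap N.X, N.swap N.Y]) hS)
  have hq := Y.mul_mem (Y.inv_mem d) (show (tG S, tG S') ∈ Y from hz)
  rw [Prod.inv_mk, Prod.mk_mul_mk, inv_mul_cancel, ← map_inv, ← map_mul] at hq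
  obtain ⟨c, hc2, e⟩ := P.kernel hp2 hd hq
  have hdet := congrArg (fun z : G3 => z.val.det) e
  rw [tG_val, (S⁻¹ * S').2, scU_val, Matrix.det_smul, Matrix.det_one, mul_one, Fintype.card_fin] at hdet
  have : (c : F) = 1 := by linear_combination -hdet - (c : F) * hc2
  rw [show c = 1 from Units.ext this, map_one, map_mul, map_inv, inv_mul_eq_one] at e
  rw [show (tG S : G3) = tG S' from e, pairU_diag]

end CfsgLib.MaxSub.SUNine
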