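/-
The inverting involution is not conjugate to the other involutions of the `2`-group: characteristic two.
-/
import Cfsg.Agent.Lib.MaxSub.SLNine.Quat
import Mathlib.LinearAlgebra.Matrix.Rank

set_option autoImplicit false
set_option maxHeartbeats 800000
set_option linter.unusedSectionVars false

namespace CfsgLib.MaxSub.SUNine

open Matrix CfsgLib.MaxSub.SLThree.Hess
open CfsgLib.MaxSub.SLNine
open CfsgLib.MaxSub.TensorPow
open CfsgLib.Aschbacher (permGL permMat)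

universe u

variable {F : Type u} [Field F] {ω : F}

local notation "GT" => GL (Fin 2 → Fin 3) F
local notation "MT" => Matrix (Fin 2 → Fin 3) (Fin 2 → Fin 3) F
local notation "SL" => Matrix.SpecialLinearGroup (Fin 3) F
local notation "Mn" => Matrix (Fin 3) (Fin 3) F

/-- Moving three vectors. -/
def Rk3 (w : GL (Fin 2 → Fin 3) F) : Prop :=
  ∃ (P : Matrix (Fin 2 → Fin 3) (Fin 3) F) (Q : Matrix (Fin 3) (Fin 2 → Fin 3) F), w.val - 1 = P * Q

theorem Rk3.conj {w : GT} (hw : Rk3 w) (g : GT) : Rk3 (g * w * g⁻¹) := by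
  obtain ⟨P, Q, e⟩ := hw
  refine ⟨g.val * P, Q * (g⁻¹ : GT).val, ?_⟩
  rw [Units.val_mul, Units.val_mul,
    show g.val * w.val * (g⁻¹ : GT).val - 1 = g.val * (w.val - 1) * (g⁻¹ : GT).val by
      rw [mul_sub, sub_mul, mul_one, Units.mul_inv], e]
  simp only [Matrix.mul_assoc]

theorem not_rk3_jj : ¬ Rk3 (jj : GT) := by
  rintro ⟨P, Q, e⟩
  set R : Fin 4 → (Fin 2 → Fin 3) := ![![1, 1], ![1, 2], ![0, 1], ![1, 0]] with hR
  set C : Fin 4 → (Fin 2 → Fin 3) := ![![2, 2], ![2, 1], ![0, 2], ![2, 0]] with hC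
  have hv : (jj : GT).val = fa 0 (Tm : Mn) * fa 1 (Tm : Mn) := rfl
  have h1 : ((jj : GT).val - 1).submatrix R C = (1 : Matrix (Fin 4) (Fin 4) F) := by
    ext i j
    rw [Matrix.submatrix_apply, Matrix.sub_apply, hv, fa_mul_apply]
    fin_cases i <;> fin_cases j <;> simp [hR, hC, Tm, Matrix.one_apply, funext_iff, Fin.forall_fin_two]
  rw [e, Matrix.submatrix_mul P Q R id C Function.bijective_id] at h1
  have h3 := (Matrix.rank_mul_le_right (P.submatrix R id) (Q.submatrix id C)).trans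
    (Matrix.rank_le_card_height (Q.submatrix id C))
  rw [h1, Matrix.rank_one] at h3
  simp at h3

theorem rk3_ii (h2 : (2 : F) = 0) : Rk3 (ii : GT) := by
  refine ⟨Matrix.of fun x k => if x 0 ≠ 0 ∧ x 1 = k then 1 else 0,
    Matrix.of fun k x => if x 0 ≠ 0 ∧ x 1 = k then 1 else 0, ?_⟩
  have hv : (ii : GT).val = fa 0 (Tm : Mn) * fa 1 (1 : Mn) := rfl
  ext x y
  obtain ⟨a, b, rfl⟩ : ∃ a b, x = ![a, b] := ⟨x 0, x 1, funext fun i => by fin_cases i <;> rfl⟩
  obtain ⟨c, d, rfl⟩ : ∃ c d, y = ![c, d] := ⟨y 0, y 1, funext fun i => by fin_cases i <;> rfl⟩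
  rw [Matrix.sub_apply, hv, fa_mul_apply, Matrix.mul_apply, Fin.sum_univ_three]
  fin_cases a <;> fin_cases b <;> fin_cases c <;> fin_cases d <;>
    simp [Tm, Matrix.one_apply, funext_iff, Fin.forall_fin_two] <;> grind

theorem rk3_tau (h2 : (2 : F) = 0) : Rk3 (tau : GT) := by
  refine ⟨Matrix.of fun x k => if x 0 ≠ x 1 ∧ x 0 ≠ k ∧ x 1 ≠ k then 1 else 0,
    Matrix.of fun k x => if x 0 ≠ x 1 ∧ x 0 ≠ k ∧ x 1 ≠ k then 1 else 0, ?_⟩
  have hv : (tau : GT).val = -(permMat 3 F (Equiv.swap (0 : Fin 2) 1)) := rfl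
  ext x y
  obtain ⟨a, b, rfl⟩ : ∃ a b, x = ![a, b] := ⟨x 0, x 1, funext fun i => by fin_cases i <;> rfl⟩
  obtain ⟨c, d, rfl⟩ : ∃ c d, y = ![c, d] := ⟨y 0, y 1, funext fun i => by fin_cases i <;> rfl⟩
  rw [Matrix.sub_apply, hv, Matrix.mul_apply, Fin.sum_univ_three]
  fin_cases a <;> fin_cases b <;> fin_cases c <;> fin_cases d <;>
    simp [permMat, Matrix.one_apply, funext_iff, Fin.forall_fin_two] <;> grind

/-- Only the inverting involution. -/
theorem onlyJJ_char_two (h : Root ω) (h2 : (2 : F) = 0) : OnlyJJ h := by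
  rintro w hw hw2 ⟨g, hg⟩
  have hjj : ∀ {v : GT}, Rk3 v → v ≠ g * jj * g⁻¹ := by
    rintro v hv rfl
    refine not_rk3_jj (F := F) ?_
    have := hv.conj g⁻¹
    rwa [show g⁻¹ * (g * jj * g⁻¹) * g⁻¹⁻¹ = jj by group] at this
  obtain ⟨a, ha, b, hb, rfl | rfl⟩ := hw
  · rw [← map_mul, Prod.mk_mul_mk] at hw2
    obtain ⟨e1, e2⟩ := q2_one h (mul_mem ha ha) (mul_mem hb hb) hw2
    have ha' : a = 1 ∨ a = sT := (Q_sq h ha).resolve_right (fun e => sT_ne_one (e ▸ e1))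
    have hb' : b = 1 ∨ b = sT := (Q_sq h hb).resolve_right (fun e => sT_ne_one (e ▸ e2))
    rcases ha' with rfl | rfl <;> rcases hb' with rfl | rfl
    · refine absurd hg (hjj ⟨0, 0, ?_⟩)
      rw [show (q2 ((1 : SL), 1) : GT) = 1 from map_one q2, Units.val_one, sub_self, Matrix.zero_mul]
    · refine absurd hg (hjj ?_)
      rw [← ii_tau]
      exact (rk3_ii h2).conj _
    · exact absurd hg (hjj (rk3_ii h2))
    · rfl
  · refine absurd hg (hjj ?_)
    have hb' : b = a⁻¹ := by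
      rw [mul_assoc, ← mul_assoc tau, tau_q2, mul_assoc (q2 (b, a)), tau_sq, mul_one, ← map_mul, Prod.mk_mul_mk] at hw2
      exact (inv_eq_of_mul_eq_one_right (q2_one h (mul_mem ha hb) (mul_mem hb ha) hw2).1).symm
    subst hb'
    have := (rk3_tau h2).conj (q2 (a, 1))
    rwa [← map_inv, Prod.inv_mk, inv_one, mul_assoc, tau_q2, ← mul_assoc, ← map_mul, Prod.mk_mul_mk, mul_one,
      one_mul] at this

end CfsgLib.MaxSub.SUNine
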