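/-
Elements of order three centralising one Fourier pair: characteristic two.
-/
import Cfsg.Agent.Lib.MaxSub.SUNine.Points
import Cfsg.Agent.Lib.MaxSub.SLNine.Quat

set_option autoImplicit false
set_option maxHeartbeats 800000
set_option linter.unusedSectionVars false

namespace CfsgLib.MaxSub.SUNine

open Matrix CfsgLib.UnitaryTransvection
open CfsgLib.MaxSub.SLThree.Hess (Root Xm Ym Tm Fm Gm sX sY sF sG sT Fm_sq)
open CfsgLib.MaxSub.SLNine
open CfsgLib.MaxSub.TensorPow

universe u

variable {F : Type u} [Field F] {ω : F}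

local notation "V" => Fin 3 → F
local notation "G3" => GL (Fin 3) F
local notation "GT" => GL (Fin 2 → Fin 3) F
local notation "Mn" => Matrix (Fin 3) (Fin 3) F
local notation "MT" => Matrix (Fin 2 → Fin 3) (Fin 2 → Fin 3) F
local notation "SL" => Matrix.SpecialLinearGroup (Fin 3) F

section FourElements

variable [Fintype F] {hF : Fintype.card F = 2 ^ 2}

local notation "σ" => frob hF

include hF in
theorem two_zero : (2 : F) = 0 := by
  have h4 : ((Fintype.card F : ℕ) : F) = 0 := FiniteField.cast_card_eq_zero F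
  rw [hF] at h4
  norm_num at h4
  have : (2 : F) * 2 = 0 := by linear_combination h4
  exact mul_self_eq_zero.1 this

include hF in
theorem cube_of_ne {x : F} (hx : x ≠ 0) : x ^ 3 = 1 := by
  have := FiniteField.pow_card_sub_one_eq_one x hx
  rwa [hF] at this

include hF in
theorem root_pow_of_ne (h : Root ω) {x : F} (hx : x ≠ 0) : ∃ k : Fin 3, x = ω ^ (k : ℕ) := by
  rcases h.cases (cube_of_ne (hF := hF) hx) with e | e | e
  · exact ⟨0, by rw [e]; exact (pow_zero ω).symm⟩
  · exact ⟨1, by rw [e]; exact (pow_one ω).symm⟩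
  · exact ⟨2, by rw [e]; exact (pow_two ω).symm⟩

theorem norm_four {x : F} (hx : x ≠ 0) : x * σ x = 1 := by
  rw [frob_apply, ← cube_of_ne (hF := hF) hx]; ring

/-- Every unitary matrix of degree three normalises the group of order twenty-seven. -/
theorem nz_all_two (h : Root ω) {A : G3} (hA : A ∈ UG σ (Fin 3)) : Nz h A := by
  have h2 := two_zero (hF := hF)
  have hq : 2 % 3 = 2 := rfl
  have hG : Gens hF h (UG σ (Fin 3)) :=
    ⟨le_rfl, gX_UG hF hq h, gY_UG hF, gF_UG hF hq h, gG_UG hF hq h, rr_UG hF hq h⟩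
  refine hG.nz_of_points (fun B hB => ?_) A hA
  have hn := UG_cols hB 0 0
  rw [if_pos rfl, Fin.sum_univ_three] at hn
  set v := B.val *ᵥ (Pi.single 0 1 : V) with hv
  have hvv : ∀ k, B.val k 0 = v k := fun k => by simp [hv, Matrix.mulVec_single_one]
  simp only [hvv] at hn
  have one_ne : ∀ {x : F}, x * σ x = 0 → x = 0 := fun {x} hx => (mul_eq_zero.1 hx).elim id ((map_eq_zero _).1)
  by_cases h0 : v 0 = 0 <;> by_cases h1 : v 1 = 0 <;> by_cases h2' : v 2 = 0
  · exfalso; simp [h0, h1, h2'] at hn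
  · exact Or.inl ⟨2, v 2, funext fun k => by fin_cases k <;> simp [h0, h1]⟩
  · exact Or.inl ⟨1, v 1, funext fun k => by fin_cases k <;> simp [h0, h2']⟩
  · exfalso
    rw [h0, zero_mul, norm_four h1, norm_four h2'] at hn
    exact one_ne_zero (α := F) (by linear_combination -hn + h2)
  · exact Or.inl ⟨0, v 0, funext fun k => by fin_cases k <;> simp [h1, h2']⟩
  · exfalso
    rw [h1, zero_mul, norm_four h0, norm_four h2'] at hn
    exact one_ne_zero (α := F) (by linear_combination -hn + h2)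
  · exfalso
    rw [h2', zero_mul, norm_four h0, norm_four h1] at hn
    exact one_ne_zero (α := F) (by linear_combination -hn + h2)
  · obtain ⟨i, hi⟩ := root_pow_of_ne (hF := hF) h (div_ne_zero h1 h0)
    obtain ⟨j, hj⟩ := root_pow_of_ne (hF := hF) h (div_ne_zero h2' h0)
    refine Or.inr ⟨i, j, v 0, funext fun k => ?_⟩
    fin_cases k <;> simp [← hi, ← hj] <;> field_simp

end FourElements

/-- The nilpotent element of the plane. -/
def Ep : Matrix (Fin 3) (Fin 3) F := 1 + Tm

/-- The elements commuting with the Fourier pair of the first factor. -/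
noncomputable def pair2 (a b : Matrix (Fin 3) (Fin 3) F) : Matrix (Fin 2 → Fin 3) (Fin 2 → Fin 3) F :=
  fa 1 a + fa 0 Ep * fa 1 b

theorem Ep_sq (h2 : (2 : F) = 0) : (Ep : Mn) * Ep = 0 := by
  rw [Ep, add_mul, mul_add, mul_add, one_mul, one_mul, mul_one, CfsgLib.MaxSub.SLThree.Hess.Tm_sq]
  rw [show (1 : Mn) + Tm + (Tm + 1) = (2 : F) • (1 + Tm) by rw [two_smul]; abel, h2, zero_smul]

theorem Ep_transpose : (Ep : Mn)ᵀ = Ep := by
  ext i j
  fin_cases i <;> fin_cases j <;> simp [Ep, Tm]

theorem Ep_map (s : F →+* F) : (Ep : Mn).map s = Ep := by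
  ext i j
  fin_cases i <;> fin_cases j <;> simp [Ep, Tm, map_ofNat]

theorem pair2_mul (h2 : (2 : F) = 0) (a b c d : Mn) :
    pair2 a b * pair2 c d = (pair2 (a * c) (a * d + b * c) : MT) := by
  have e1 : (fa (0 : Fin 2) Ep * fa 1 b * fa 1 c : MT) = fa 0 Ep * fa 1 (b * c) := by
    rw [mul_assoc, ← map_mul]
  have e2 : (fa (1 : Fin 2) a * (fa 0 Ep * fa 1 d) : MT) = fa 0 Ep * fa 1 (a * d) := by
    rw [← mul_assoc, (fa_commute (by decide : (1 : Fin 2) ≠ 0) a Ep).eq, mul_assoc, ← map_mul]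
  have e3 : (fa (0 : Fin 2) Ep * fa 1 b * (fa 0 Ep * fa 1 d) : MT) = 0 := by
    rw [kron_mul, Ep_sq h2, map_zero, zero_mul]
  rw [pair2, pair2, pair2, add_mul, mul_add, mul_add, e1, e2, e3, add_zero, map_add, mul_add, ← map_mul]
  abel

theorem pair2_one : (pair2 1 0 : MT) = 1 := by rw [pair2, map_one, map_zero, mul_zero, add_zero]

theorem pair2_left (a : Mn) : (pair2 a 0 : MT) = fa 1 a := by rw [pair2, map_zero, mul_zero, add_zero]

theorem pair2_apply (a b : Mn) (x y : Fin 2 → Fin 3) :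
    (pair2 a b : MT) x y = (1 : Mn) (x 0) (y 0) * a (x 1) (y 1) + (Ep : Mn) (x 0) (y 0) * b (x 1) (y 1) := by
  rw [pair2, show (fa (1 : Fin 2) a : MT) = fa 0 (1 : Mn) * fa 1 a by rw [map_one, one_mul], Matrix.add_apply,
    fa_mul_apply, fa_mul_apply]

theorem pair2_inj {a b c d : Mn} (e : (pair2 a b : MT) = pair2 c d) : a = c ∧ b = d := by
  have key : ∀ (x y : Fin 3) (i j : Fin 3),
      (1 : Mn) x y * a i j + (Ep : Mn) x y * b i j = (1 : Mn) x y * c i j + (Ep : Mn) x y * d i j := fun x y i j => by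
    have := congrFun (congrFun e ![x, i]) ![y, j]
    rw [pair2_apply, pair2_apply] at this
    exact this
  refine ⟨?_, ?_⟩
  · ext i j
    simpa [Ep, Tm] using key 0 0 i j
  · ext i j
    simpa [Ep, Tm, Matrix.one_apply] using key 1 2 i j

/-- The centraliser of the Fourier pair in the matrix algebra of degree three. -/
theorem commFG_two (h : Root ω) (h2 : (2 : F) = 0) {D : Mn}
    (hF : D * Fm ω = Fm ω * D) (hG : D * Gm ω = Gm ω * D) :
    D = D 0 0 • 1 + D 1 2 • Ep := by
  rw [Fm, Matrix.smul_mul, Matrix.mul_smul] at hF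
  rw [Gm, Matrix.smul_mul, Matrix.mul_smul] at hG
  have hF' := smul_right_injective Mn (inv_ne_zero h.sub_ne) hF
  have hG' := smul_right_injective Mn (inv_ne_zero h.sub_ne) hG
  have f00 := congrFun (congrFun hF' 0) 0
  have f01 := congrFun (congrFun hF' 0) 1
  have f02 := congrFun (congrFun hF' 0) 2
  have f10 := congrFun (congrFun hF' 1) 0
  have f11 := congrFun (congrFun hF' 1) 1
  have f12 := congrFun (congrFun hF' 1) 2
  have f20 := congrFun (congrFun hF' 2) 0
  have f21 := congrFun (congrFun hF' 2) 1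
  have g00 := congrFun (congrFun hG' 0) 0
  have g01 := congrFun (congrFun hG' 0) 1
  have g10 := congrFun (congrFun hG' 1) 0
  have g11 := congrFun (congrFun hG' 1) 1
  simp [Matrix.mul_apply, Fin.sum_univ_three] at f00 f01 f02 f10 f11 f12 f20 f21 g00 g01 g10 g11
  have := h.eq
  have := h.three
  have := h.ne_zero
  ext i j
  fin_cases i <;> fin_cases j <;> simp [Ep, Tm] <;> grind

theorem exists_pair2 (h : Root ω) (h2 : (2 : F) = 0) {M : MT} (hF : M * fa 0 (Fm ω) = fa 0 (Fm ω) * M)
    (hG : M * fa 0 (Gm ω) = fa 0 (Gm ω) * M) : ∃ a b : Mn, M = pair2 a b := by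
  let S : Fin 3 → Fin 3 → Mn := fun k l => Matrix.of fun a c => M ![a, k] ![c, l]
  have hS : ∀ A : Mn, M * fa 0 A = fa 0 A * M → ∀ k l, S k l * A = A * S k l := by
    intro A hA k l
    ext a c
    have := congrFun (congrFun hA ![a, k]) ![c, l]
    rw [show (fa (0 : Fin 2) A : MT) = fa 0 A * fa 1 (1 : Mn) by rw [map_one, mul_one],
      Matrix.mul_apply, Matrix.mul_apply, ← (finTwoArrowEquiv (Fin 3)).symm.sum_comp,
      ← (finTwoArrowEquiv (Fin 3)).symm.sum_comp, Fintype.sum_prod_type, Fintype.sum_prod_type] at this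
    simp only [fa_mul_apply, Matrix.one_apply] at this
    simpa [Matrix.mul_apply, S] using this
  refine ⟨Matrix.of fun k l => S k l 0 0, Matrix.of fun k l => S k l 1 2, ?_⟩
  ext x y
  have e := congrFun (congrFun (commFG_two h h2 (hS _ hF (x 1) (y 1)) (hS _ hG (x 1) (y 1))) (x 0)) (y 0)
  have hx : ![x 0, x 1] = x := by funext i; fin_cases i <;> rfl
  have hy : ![y 0, y 1] = y := by funext i; fin_cases i <;> rfl
  rw [show M x y = S (x 1) (y 1) (x 0) (y 0) by simp [S, hx, hy], e, pair2_apply]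
  simp [mul_comm]

/-- The elements of the kernel. -/
noncomputable def wU (h2 : (2 : F) = 0) (b : Matrix (Fin 3) (Fin 3) F) : GL (Fin 2 → Fin 3) F where
  val := pair2 1 b
  inv := pair2 1 b
  val_inv := by
    rw [pair2_mul h2, one_mul, mul_one, one_mul, ← two_smul F b, h2, zero_smul, pair2_one]
  inv_val := by
    rw [pair2_mul h2, one_mul, mul_one, one_mul, ← two_smul F b, h2, zero_smul, pair2_one]

theorem wU_val (h2 : (2 : F) = 0) (b : Mn) : (wU h2 b).val = pair2 1 b := rfl

theorem wU_add (h2 : (2 : F) = 0) (a b : Mn) : wU h2 (a + b) = wU h2 a * wU h2 b :=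
  Units.ext (by rw [Units.val_mul, wU_val, wU_val, wU_val, pair2_mul h2, one_mul, one_mul, mul_one, add_comm a b])

theorem wU_conj (h2 : (2 : F) = 0) (g : G3) (b : Mn) :
    fu 1 g * wU h2 b * (fu 1 g)⁻¹ = wU h2 (g.val * b * (g⁻¹ : G3).val) := by
  refine Units.ext ?_
  rw [← map_inv, Units.val_mul, Units.val_mul, fu_val, fu_val, wU_val, wU_val, ← pair2_left, ← pair2_left,
    pair2_mul h2, pair2_mul h2, zero_mul, add_zero, mul_one, mul_zero, zero_add, Units.mul_inv]

theorem wU_T (h2 : (2 : F) = 0) : wU h2 1 = fu 0 (tG (sT : SL)) := by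
  refine Units.ext ?_
  rw [wU_val, fu_val, tG_val, pair2, map_one, mul_one, ← map_one (fa (0 : Fin 2) (F := F) (m := 3)), ← map_add, Ep]
  congr 1
  show (1 : Mn) + (1 + Tm) = Tm
  rw [← add_assoc, ← two_smul F (1 : Mn), h2, zero_smul, zero_add]

variable [Fintype F] {hF : Fintype.card F = 2 ^ 2}

local notation "σ" => frob hF

theorem pair2_UG (h2 : (2 : F) = 0) {g : GT} {a b : Mn} (hg : g ∈ UG σ (Fin 2 → Fin 3)) (e : g.val = pair2 a b) :
    aᵀ * a.map σ = 1 ∧ aᵀ * b.map σ + bᵀ * a.map σ = 0 := by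
  have hu := mem_UG.1 hg
  have hT : g.valᵀ = pair2 aᵀ bᵀ := by
    rw [e, pair2, pair2, Matrix.transpose_add, Matrix.transpose_mul, fa_transpose, fa_transpose, fa_transpose,
      Ep_transpose, (fa_commute (by decide : (1 : Fin 2) ≠ 0) bᵀ Ep).eq]
  have hM : g.val.map σ = pair2 (a.map σ) (b.map σ) := by
    rw [e, pair2, pair2, Matrix.map_add _ (map_add σ), Matrix.map_mul, fa_map, fa_map, fa_map, Ep_map]
  rw [hT, hM, pair2_mul h2, ← pair2_one] at hu
  exact pair2_inj hu

variable {h : Root ω}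

/-- Either the kernel is as small as possible or it contains a transvection. -/
theorem kernel_cases {H : Subgroup GT} (N : HasU hF h H) (h2 : (2 : F) = 0) :
    (∀ b : Mn, wU h2 b ∈ H → b = 0 ∨ b = 1) ∨ wU h2 (Matrix.single 0 0 1) ∈ H := by
  classical
  have hI : wU h2 1 ∈ H := by
    rw [wU_T]
    have := H.mul_mem N.f N.f
    rwa [← map_mul, ← tG_mul, show sF h * sF h = (sT : SL) from Subtype.ext (Fm_sq h)] at this
  have hadd : ∀ {a b : Mn}, wU h2 a ∈ H → wU h2 b ∈ H → wU h2 (a + b) ∈ H := fun ha hb => by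
    rw [wU_add]; exact H.mul_mem ha hb
  have hconj : ∀ {g : G3} {b : Mn}, fu 1 g ∈ H → wU h2 b ∈ H → wU h2 (g.val * b * (g⁻¹ : G3).val) ∈ H :=
    fun {g b} hg hb => by rw [← wU_conj]; exact H.mul_mem (H.mul_mem hg hb) (H.inv_mem hg)
  have hXi : (tG (sX h) : G3)⁻¹ = tG (sX h) * tG (sX h) :=
    inv_eq_of_mul_eq_one_right (by rw [← tG_mul, ← tG_mul, (Subtype.ext (CfsgLib.MaxSub.SLThree.Hess.Xm_cube h) : sX h * (sX h * sX h) = (1 : SL)), tG_one])
  have hdiag : ∀ {b : Mn}, wU h2 b ∈ H → wU h2 (Matrix.diagonal fun i => b i i) ∈ H := by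
    intro b hb
    have h1 := hconj (N.swap N.X) hb
    have hh := hadd hb (hadd h1 (hconj (N.swap N.X) h1))
    convert hh using 2
    rw [hXi, Units.val_mul, tG_val]
    show _ = b + (Xm ω * b * (Xm ω * Xm ω) + Xm ω * (Xm ω * b * (Xm ω * Xm ω)) * (Xm ω * Xm ω))
    have := h.eq
    have := h.cube
    ext i j
    fin_cases i <;> fin_cases j <;>
      simp [Xm, Matrix.mul_diagonal, Matrix.diagonal_mul, Matrix.diagonal_mul_diagonal] <;> grind
  by_cases hA : ∃ b : Mn, wU h2 b ∈ H ∧ (b 0 0 ≠ b 1 1 ∨ b 0 0 ≠ b 2 2)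
  · refine Or.inr ?_
    obtain ⟨b, hb, hne⟩ := hA
    have hu := (pair2_UG h2 (N.le hb) (wU_val h2 b)).2
    rw [Matrix.transpose_one, one_mul, Matrix.map_one _ (map_zero σ) (map_one σ), mul_one] at hu
    have h01 : ∀ i, b i i = 0 ∨ b i i = 1 := by
      intro i
      by_cases hz : b i i = 0
      · exact Or.inl hz
      · refine Or.inr ?_
        have := congrFun (congrFun hu i) i
        simp [frob_apply] at this
        have h1 : b i i * (b i i - 1) = 0 := by linear_combination this - b i i * h2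
        exact sub_eq_zero.1 ((mul_eq_zero.1 h1).resolve_left hz)
    have hd := hdiag hb
    obtain ⟨k, hk⟩ : ∃ k : Fin 3, wU h2 (Matrix.single k k 1) ∈ H := by
      rcases h01 0 with e0 | e0 <;> rcases h01 1 with e1 | e1 <;> rcases h01 2 with e2 | e2
      · exact absurd hne (by simp [e0, e1, e2])
      · refine ⟨2, ?_⟩; convert hd using 2; ext i j; fin_cases i <;> fin_cases j <;> simp [e0, e1, e2]
      · refine ⟨1, ?_⟩; convert hd using 2; ext i j; fin_cases i <;> fin_cases j <;> simp [e0, e1, e2]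
      · refine ⟨0, ?_⟩; convert hadd hd hI using 2; ext i j; fin_cases i <;> fin_cases j <;> simp [e0, e1, e2] <;> grind
      · refine ⟨0, ?_⟩; convert hd using 2; ext i j; fin_cases i <;> fin_cases j <;> simp [e0, e1, e2]
      · refine ⟨1, ?_⟩; convert hadd hd hI using 2; ext i j; fin_cases i <;> fin_cases j <;> simp [e0, e1, e2] <;> grind
      · refine ⟨2, ?_⟩; convert hadd hd hI using 2; ext i j; fin_cases i <;> fin_cases j <;> simp [e0, e1, e2] <;> grind
      · exact absurd hne (by simp [e0, e1, e2])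
    have hYi : (tG (sY : SL) : G3)⁻¹ = tG sY * tG sY :=
      inv_eq_of_mul_eq_one_right (by rw [← tG_mul, ← tG_mul, (Subtype.ext CfsgLib.MaxSub.SLThree.Hess.Ym_cube : sY * (sY * sY) = (1 : SL)), tG_one])
    fin_cases k
    · exact hk
    · have := hconj (N.swap N.Y) (hconj (N.swap N.Y) hk)
      convert this using 2
      rw [hYi, Units.val_mul, tG_val]
      ext i j
      fin_cases i <;> fin_cases j <;> simp [sY, Ym, Matrix.mul_apply, Fin.sum_univ_three, Matrix.vecMul, dotProduct]
    · have := hconj (N.swap N.Y) hk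
      convert this using 2
      rw [hYi, Units.val_mul, tG_val]
      ext i j
      fin_cases i <;> fin_cases j <;> simp [sY, Ym, Matrix.mul_apply, Fin.sum_univ_three, Matrix.vecMul, dotProduct]
  refine Or.inl fun b hb => ?_
  push Not at hA
  set β := b 0 0 with hβdef
  have hu := (pair2_UG h2 (N.le hb) (wU_val h2 b)).2
  rw [Matrix.transpose_one, one_mul, Matrix.map_one _ (map_zero σ) (map_one σ), mul_one] at hu
  have hβ : β = 0 ∨ β = 1 := by
    have := congrFun (congrFun hu 0) 0
    simp [frob_apply, ← hβdef] at this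
    by_cases hz : β = 0
    · exact Or.inl hz
    · have h1 : β * (β - 1) = 0 := by linear_combination this - β * h2
      exact Or.inr (sub_eq_zero.1 ((mul_eq_zero.1 h1).resolve_left hz))
  set c := b + β • (1 : Mn) with hc
  have hcH : wU h2 c ∈ H := by
    rcases hβ with e | e
    · rw [hc, e, zero_smul, add_zero]; exact hb
    · rw [hc, e, one_smul]; exact hadd hb hI
  obtain ⟨hb1, hb2⟩ := hA b hb
  have c00 : c 0 0 = 0 := by simp [hc, ← hβdef]; linear_combination β * h2
  have c11 : c 1 1 = 0 := by simp [hc, ← hb1, ← hβdef]; linear_combination β * h2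
  have c22 : c 2 2 = 0 := by simp [hc, ← hb2, ← hβdef]; linear_combination β * h2
  set G1 := H.comap (fu (1 : Fin 2)) with hG1
  have hG : Gens hF h G1 :=
    { le := fun B hB => fu_UG.1 (N.le hB)
      X := N.swap N.X
      Y := N.swap N.Y
      f := N.swap N.f
      g := N.swap N.g
      r := N.swap N.r }
  have hQ : ∀ i j : Fin 3, ∑ k, ∑ l, σ (![1, ω ^ (i : ℕ), ω ^ (j : ℕ)] k) * c k l *
      ![1, ω ^ (i : ℕ), ω ^ (j : ℕ)] l = 0 := by
    intro i j
    obtain ⟨g, hg, -, d, hd⟩ := hG.move (Or.inr ⟨i, j, 1, (one_smul _ _).symm⟩ : Hes ω ![1, ω ^ (i : ℕ), ω ^ (j : ℕ)])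
    have hmem := hconj (g := g⁻¹) (b := c) (by rw [map_inv]; exact H.inv_mem hg) hcH
    rw [inv_inv] at hmem
    obtain ⟨e1, e2⟩ := hA _ hmem
    set M := (g⁻¹ : G3).val * c * g.val with hM
    have htr : M 0 0 + M 1 1 + M 2 2 = 0 := by
      have e : M.trace = c.trace := Matrix.trace_units_conj' g c
      rw [Matrix.trace_fin_three, Matrix.trace_fin_three, c00, c11, c22] at e
      linear_combination e
    have hM0 : M 0 0 = 0 := by
      rw [← e1, ← e2] at htr
      linear_combination htr - M 0 0 * h2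
    have hgU := fu_UG.1 (N.le hg)
    have hinv : (g⁻¹ : G3).val = (g.val.map σ)ᵀ := by
      refine Units.inv_eq_of_mul_eq_one_left ?_
      have := congrArg Matrix.transpose (mem_UG.1 hgU)
      rwa [Matrix.transpose_mul, Matrix.transpose_transpose, Matrix.transpose_one] at this
    have hdl : ∀ l, (![1, ω ^ (i : ℕ), ω ^ (j : ℕ)] : V) l = d * g.val l 0 := fun l => by
      rw [hd]; simp [Matrix.mulVec_single_one]
    rw [hM, hinv] at hM0
    simp only [Matrix.mul_apply, Fin.sum_univ_three, Matrix.transpose_apply, Matrix.map_apply] at hM0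
    simp only [Fin.sum_univ_three, hdl, map_mul]
    linear_combination (σ d * d) * hM0
  have hω : σ ω = ω * ω := by rw [frob_apply, pow_two]
  have q00 := hQ 0 0; have q01 := hQ 0 1; have q02 := hQ 0 2
  have q10 := hQ 1 0; have q11 := hQ 1 1; have q12 := hQ 1 2
  have q20 := hQ 2 0; have q21 := hQ 2 1; have q22 := hQ 2 2
  simp [Fin.sum_univ_three, c00, c11, c22, hω] at q00 q01 q02 q10 q11 q12 q20 q21 q22
  have := h.eq
  have hzero : c = 0 := by
    ext k l
    fin_cases k <;> fin_cases l <;> simp [c00, c11, c22] <;> grind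
  have hbc : b = β • (1 : Mn) := by
    have : b + β • (1 : Mn) = 0 := hzero
    calc b = b + β • (1 : Mn) + β • (1 : Mn) := by
          rw [add_assoc, ← add_smul, show β + β = 0 by linear_combination β * h2, zero_smul, add_zero]
      _ = β • (1 : Mn) := by rw [this, zero_add]
  rcases hβ with e | e <;> rw [hbc, e]
  · exact Or.inl (zero_smul _ _)
  · exact Or.inr (one_smul _ _)

/-- The centraliser hypothesis in characteristic two, when there is no transvection. -/
theorem centThree_two {H : Subgroup GT} (N : HasU hF h H) (h2 : (2 : F) = 0)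
    (hker : ∀ b : Mn, wU h2 b ∈ H → b = 0 ∨ b = 1) : CentThree h H := by
  intro z hz hzF hzG h3 hj
  have conv : ∀ {w : GT} {A : SL}, w * fu 0 (tG A) = fu 0 (tG A) * w → w.val * fa 0 A.1 = fa 0 A.1 * w.val :=
    fun {w A} e => by have := congrArg Units.val e; rwa [Units.val_mul, Units.val_mul, fu_val, tG_val] at this
  have hF' : Commute z (fu (0 : Fin 2) (tG (sF h))) := hzF
  have hG' : Commute z (fu (0 : Fin 2) (tG (sG h))) := hzG
  obtain ⟨a, b, e⟩ := exists_pair2 h h2 (@conv z (sF h) hzF) (@conv z (sG h) hzG)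
  obtain ⟨a', b', e'⟩ := exists_pair2 h h2 (@conv z⁻¹ (sF h) hF'.inv_left.eq) (@conv z⁻¹ (sG h) hG'.inv_left.eq)
  have hm : (pair2 (a * a') (a * b' + b * a') : MT) = pair2 1 0 := by
    rw [← pair2_mul h2, ← e, ← e', Units.mul_inv, pair2_one]
  have hm' : (pair2 (a' * a) (a' * b + b' * a) : MT) = pair2 1 0 := by
    rw [← pair2_mul h2, ← e, ← e', Units.inv_mul, pair2_one]
  set A : G3 := ⟨a, a', (pair2_inj hm).1, (pair2_inj hm').1⟩ with hA
  have haU : A ∈ UG σ (Fin 3) := (pair2_UG h2 (N.le hz) e).1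
  have h3' : A * (A * A) = 1 := by
    refine Units.ext ?_
    have := congrArg Units.val h3
    rw [Units.val_mul, Units.val_mul, e, pair2_mul h2, pair2_mul h2, Units.val_one, ← pair2_one] at this
    exact (pair2_inj this).1
  have hcT : Commute (fu (0 : Fin 2) (tG (sT : SL))) z := by
    rw [← show sF h * sF h = (sT : SL) from Subtype.ext (Fm_sq h), tG_mul, map_mul]
    exact (Commute.mul_right hzF hzF).symm
  have hjA : tG sT * A * (tG (sT : SL))⁻¹ = A⁻¹ := by
    refine Units.ext ?_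
    show (tG (sT : SL)).val * a * ((tG (sT : SL))⁻¹ : G3).val = a'
    have hz' : fu 1 (tG (sT : SL)) * z * (fu 1 (tG sT))⁻¹ = z⁻¹ := by
      rw [← hj, show (jj : GT) = fu 0 (tG sT) * fu 1 (tG sT) from Units.ext rfl, fu_comm, _root_.mul_inv_rev,
        show fu (1 : Fin 2) (tG (sT : SL)) * fu 0 (tG sT) * z * ((fu 0 (tG sT))⁻¹ * (fu 1 (tG sT))⁻¹)
          = fu 1 (tG sT) * (fu 0 (tG sT) * z * (fu 0 (tG sT))⁻¹) * (fu 1 (tG sT))⁻¹ by simp only [mul_assoc],
        hcT.eq, mul_inv_cancel_right]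
    have := congrArg Units.val hz'
    rw [← map_inv, Units.val_mul, Units.val_mul, fu_val, fu_val, e, e', ← pair2_left, ← pair2_left, pair2_mul h2,
      pair2_mul h2] at this
    exact (pair2_inj this).1
  obtain ⟨S, hS, hSA⟩ := R1_of_inR h (inR_of_inverted h h3' (nz_all_two h haU) hjA)
  have hSH : fu 1 (tG S) ∈ H :=
    (Subgroup.closure_le (K := H.comap ((fu (1 : Fin 2)).comp Matrix.SpecialLinearGroup.toGL))).2 (by
      rintro _ (rfl | rfl)
      exacts [N.swap N.X, N.swap N.Y]) hS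
  have hw : (fu 1 (tG S))⁻¹ * z = wU h2 (a' * b) := Units.ext (by
    rw [hSA, ← map_inv, Units.val_mul, fu_val, wU_val, e, ← pair2_left, pair2_mul h2]
    show pair2 (a' * a) (a' * b + 0 * a) = _
    rw [(pair2_inj hm').1, zero_mul, add_zero])
  refine ⟨S, hS, ?_⟩
  rcases hker _ (hw ▸ H.mul_mem (H.inv_mem hSH) hz) with e0 | e1
  · rw [e0, show wU h2 (0 : Mn) = 1 from Units.ext pair2_one, inv_mul_eq_one] at hw
    exact hw.symm
  · exfalso
    rw [e1, wU_T, inv_mul_eq_iff_eq_mul] at hw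
    set P := fu (1 : Fin 2) (tG S) with hP
    set Q := fu (0 : Fin 2) (tG (sT : SL)) with hQ
    have hc : Commute Q P := fu_comm _ _
    have hP3 : P * (P * P) = 1 := by rw [hP, ← map_mul, ← map_mul, hSA, h3', map_one]
    have hQ2 : Q * Q = 1 := by rw [hQ, ← map_mul, ← tG_mul, TT, tG_one, map_one]
    rw [hw] at h3
    have : Q = 1 := by
      calc Q = P * (P * P) * (Q * (Q * Q)) := by rw [hP3, hQ2, one_mul, mul_one]
        _ = (P * Q) ^ 3 := by rw [hc.symm.mul_pow, pow_three, pow_three]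
        _ = 1 := by rw [pow_three]; exact h3
    refine sT_ne_one (F := F) (Matrix.SpecialLinearGroup.toGL_injective ?_)
    rw [map_one]
    exact fu_injective 0 (by rw [map_one]; exact this)

end CfsgLib.MaxSub.SUNine
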