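/-
One transvection gives the special unitary group: characteristic two.
-/
import Cfsg.Agent.Lib.MaxSub.SUNine.TwoCent
import Cfsg.Agent.Lib.MaxSub.SUNine.Top

set_option autoImplicit false
set_option maxHeartbeats 800000
set_option linter.unusedSectionVars false

namespace CfsgLib.MaxSub.SUNine

open Matrix CfsgLib.UnitaryTransvection
open CfsgLib.MaxSub.SLThree.Hess (Root Xm Ym Tm Fm sX sY sF sT)
open CfsgLib.MaxSub.SLNine
open CfsgLib.MaxSub.TensorPow
open CfsgLib.Aschbacher (permMat frU)

universe u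

variable {F : Type u} [Field F] [Fintype F] {ω : F} {hF : Fintype.card F = 2 ^ 2} {h : Root ω}
  {H : Subgroup (GL (Fin 2 → Fin 3) F)}

local notation "ι" => (Fin 2 → Fin 3)
local notation "VT" => (Fin 2 → Fin 3) → F
local notation "G3" => GL (Fin 3) F
local notation "GT" => GL (Fin 2 → Fin 3) F
local notation "MT" => Matrix (Fin 2 → Fin 3) (Fin 2 → Fin 3) F
local notation "σ" => frob hF

/-- The centre of a transvection of the group. -/
def Ctv (hF : Fintype.card F = 2 ^ 2) (H : Subgroup (GL (Fin 2 → Fin 3) F)) (v : (Fin 2 → Fin 3) → F) : Prop :=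
  ∃ g ∈ H, (g : Matrix (Fin 2 → Fin 3) (Fin 2 → Fin 3) F) = 1 + vecMulVec v (fun y => frob hF (v y))

/-- Two cells. -/
def pv (p : Fin 2 → Fin 3) (x : F) (q : Fin 2 → Fin 3) (y : F) : (Fin 2 → Fin 3) → F :=
  Pi.single p x + Pi.single q y

theorem pv_comm (p : ι) (x : F) (q : ι) (y : F) : pv p x q y = pv q y p x := add_comm _ _

theorem Ctv.conj {v : VT} (hv : Ctv hF H v) {g : GT} (hg : g ∈ H) (hU : g ∈ UG σ ι) :
    Ctv hF H (g.val *ᵥ v) := by
  obtain ⟨t, ht, e⟩ := hv
  refine ⟨g * t * g⁻¹, H.mul_mem (H.mul_mem hg ht) (H.inv_mem hg), ?_⟩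
  have hinv : (g⁻¹ : GT).val = (g.val.map σ)ᵀ := by
    refine Units.inv_eq_of_mul_eq_one_left ?_
    have := congrArg Matrix.transpose (mem_UG.1 hU)
    rwa [Matrix.transpose_mul, Matrix.transpose_transpose, Matrix.transpose_one] at this
  rw [Units.val_mul, Units.val_mul, e, mul_add, add_mul, mul_one, Units.mul_inv, Matrix.mul_vecMulVec,
    Matrix.vecMulVec_mul, hinv, Matrix.vecMul_transpose]
  congr 2
  funext i
  exact (RingHom.map_mulVec σ g.val v i).symm

theorem Ctv.add {a b : VT} (ha : Ctv hF H a) (hb : Ctv hF H b) (hU : H ≤ UG σ ι) :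
    Ctv hF H (a + (a ⬝ᵥ fun y => σ (b y)) • b) := by
  obtain ⟨t, ht, e⟩ := hb
  have := ha.conj ht (hU ht)
  rwa [e, Matrix.add_mulVec, Matrix.one_mulVec, Matrix.vecMulVec_mulVec, op_smul_eq_smul, dotProduct_comm] at this

theorem fa_col (g : GT) (p r : ι) (x : F) : (g.val *ᵥ (Pi.single p x : VT)) r = g.val r p * x := by
  simp [Matrix.mulVec_single]

/-- A monomial element moves pairs to pairs. -/
theorem Ctv.mono {p q p' q' : ι} {x y c d : F} (hv : Ctv hF H (pv p x q y)) {g : GT} (hg : g ∈ H) (hU : g ∈ UG σ ι)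
    (hp : ∀ r, g.val r p = if r = p' then c else 0) (hq : ∀ r, g.val r q = if r = q' then d else 0) :
    Ctv hF H (pv p' (c * x) q' (d * y)) := by
  have e : g.val *ᵥ pv p x q y = pv p' (c * x) q' (d * y) := by
    funext r
    rw [pv, Matrix.mulVec_add, Pi.add_apply, fa_col, fa_col, hp, hq, pv, Pi.add_apply, Pi.single_apply,
      Pi.single_apply]
    split_ifs <;> simp
  rw [← e]
  exact hv.conj hg hU

theorem pair_eta (x : ι) : ∃ a b : Fin 3, x = ![a, b] := ⟨x 0, x 1, funext fun i => by fin_cases i <;> rfl⟩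

theorem fa0_col (A : Matrix (Fin 3) (Fin 3) F) (a b : Fin 3) (r : ι) :
    (fa (0 : Fin 2) A : MT) r ![a, b] = if r 1 = b then A (r 0) a else 0 := by
  rw [show (fa (0 : Fin 2) A : MT) = fa 0 A * fa 1 (1 : Matrix (Fin 3) (Fin 3) F) by rw [map_one, mul_one],
    fa_mul_apply, Matrix.one_apply]
  simp

theorem fa1_col (A : Matrix (Fin 3) (Fin 3) F) (a b : Fin 3) (r : ι) :
    (fa (1 : Fin 2) A : MT) r ![a, b] = if r 0 = a then A (r 1) b else 0 := by
  rw [show (fa (1 : Fin 2) A : MT) = fa 0 (1 : Matrix (Fin 3) (Fin 3) F) * fa 1 A by rw [map_one, one_mul],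
    fa_mul_apply, Matrix.one_apply]
  by_cases e : r 0 = a <;> simp [e]

variable (N : HasU hF h H)

include N in
/-- Moving down the rows. -/
theorem Ctv.shift0 {a b c d : Fin 3} {x y : F} (hv : Ctv hF H (pv ![a, c] x ![b, d] y)) :
    Ctv hF H (pv ![a + 1, c] x ![b + 1, d] y) := by
  have key : ∀ (a c : Fin 3) (r : ι), (fu (0 : Fin 2) (tG (sY : Matrix.SpecialLinearGroup (Fin 3) F)) : GT).val r ![a, c] =
      if r = ![a + 1, c] then 1 else 0 := by
    intro a c r
    rw [fu_val, tG_val, fa0_col]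
    obtain ⟨r0, r1, rfl⟩ := pair_eta r
    fin_cases a <;> fin_cases c <;> fin_cases r0 <;> fin_cases r1 <;>
      simp [sY, Ym, funext_iff, Fin.forall_fin_two] <;> rfl
  have := hv.mono N.Y (N.le N.Y) (key a c) (key b d)
  rwa [one_mul, one_mul] at this

include N in
/-- Moving along the columns. -/
theorem Ctv.shift1 {a b c d : Fin 3} {x y : F} (hv : Ctv hF H (pv ![a, c] x ![b, d] y)) :
    Ctv hF H (pv ![a, c + 1] x ![b, d + 1] y) := by
  have key : ∀ (a c : Fin 3) (r : ι), (fu (1 : Fin 2) (tG (sY : Matrix.SpecialLinearGroup (Fin 3) F)) : GT).val r ![a, c] =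
      if r = ![a, c + 1] then 1 else 0 := by
    intro a c r
    rw [fu_val, tG_val, fa1_col]
    obtain ⟨r0, r1, rfl⟩ := pair_eta r
    fin_cases a <;> fin_cases c <;> fin_cases r0 <;> fin_cases r1 <;>
      simp [sY, Ym, funext_iff, Fin.forall_fin_two] <;> rfl
  have := hv.mono (N.swap N.Y) (N.le (N.swap N.Y)) (key a c) (key b d)
  rwa [one_mul, one_mul] at this

include N in
/-- Exchanging rows and columns. -/
theorem Ctv.flip {a b c d : Fin 3} {x y : F} (hv : Ctv hF H (pv ![a, c] x ![b, d] y)) :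
    Ctv hF H (pv ![c, a] x ![d, b] y) := by
  have h2 := two_zero (hF := hF)
  have key : ∀ (a c : Fin 3) (r : ι), (tau : GT).val r ![a, c] = if r = ![c, a] then 1 else 0 := by
    intro a c r
    show (-(permMat 3 F (Equiv.swap (0 : Fin 2) 1))) r ![a, c] = _
    obtain ⟨r0, r1, rfl⟩ := pair_eta r
    rw [Matrix.neg_apply, permMat, Matrix.of_apply]
    have hm : (-1 : F) = 1 := by linear_combination -h2
    fin_cases a <;> fin_cases c <;> fin_cases r0 <;> fin_cases r1 <;>
      simp [funext_iff, Fin.forall_fin_two, hm]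
  have := hv.mono N.t (N.le N.t) (key a c) (key b d)
  rwa [one_mul, one_mul] at this

include N in
theorem diag_mem (e : Fin 3 → Fin 3) :
    ∃ g : G3, fu 0 g ∈ H ∧ g.val = Matrix.diagonal fun i => ω ^ (e i : ℕ) := by
  set r1 : G3 := tG sY * rr h * (tG sY)⁻¹ with hr1
  set r2 : G3 := tG sY * r1 * (tG sY)⁻¹ with hr2
  set G0 := H.comap (fu (0 : Fin 2)) with hG0
  have g0 : rr h ∈ G0 := N.r
  have gy : tG (sY : Matrix.SpecialLinearGroup (Fin 3) F) ∈ G0 := N.Y
  have g1 : r1 ∈ G0 := mul_mem (mul_mem gy g0) (inv_mem gy)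
  have g2 : r2 ∈ G0 := mul_mem (mul_mem gy g1) (inv_mem gy)
  have v1 : r1.val = Matrix.diagonal ![1, ω, 1] := by
    have e : r1.val * (tG (sY : Matrix.SpecialLinearGroup (Fin 3) F)).val =
        Matrix.diagonal ![1, ω, 1] * (tG (sY : Matrix.SpecialLinearGroup (Fin 3) F)).val := by
      rw [← Units.val_mul, hr1, inv_mul_cancel_right, Units.val_mul, rr_val, tG_val]
      ext a b
      fin_cases a <;> fin_cases b <;> simp [sY, Ym, Matrix.mul_apply, Fin.sum_univ_three]
    exact (Units.mul_left_inj _).1 e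
  have v2 : r2.val = Matrix.diagonal ![1, 1, ω] := by
    have e : r2.val * (tG (sY : Matrix.SpecialLinearGroup (Fin 3) F)).val =
        Matrix.diagonal ![1, 1, ω] * (tG (sY : Matrix.SpecialLinearGroup (Fin 3) F)).val := by
      rw [← Units.val_mul, hr2, inv_mul_cancel_right, Units.val_mul, v1, tG_val]
      ext a b
      fin_cases a <;> fin_cases b <;> simp [sY, Ym, Matrix.mul_apply, Fin.sum_univ_three]
    exact (Units.mul_left_inj _).1 e
  refine ⟨rr h ^ (e 0 : ℕ) * r1 ^ (e 1 : ℕ) * r2 ^ (e 2 : ℕ),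
    mul_mem (mul_mem (pow_mem g0 _) (pow_mem g1 _)) (pow_mem g2 _), ?_⟩
  rw [Units.val_mul, Units.val_mul, Units.val_pow_eq_pow_val, Units.val_pow_eq_pow_val, Units.val_pow_eq_pow_val,
    v1, v2, rr_val, Matrix.diagonal_pow, Matrix.diagonal_pow, Matrix.diagonal_pow, Matrix.diagonal_mul_diagonal,
    Matrix.diagonal_mul_diagonal]
  congr 1
  funext i
  fin_cases i <;> simp

include N in
/-- Arbitrary values in two rows. -/
theorem Ctv.scale {a b c d : Fin 3} (hab : a ≠ b) {x y x' y' : F} (hx : x ≠ 0) (hy : y ≠ 0) (hx' : x' ≠ 0)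
    (hy' : y' ≠ 0) (hv : Ctv hF H (pv ![a, c] x ![b, d] y)) : Ctv hF H (pv ![a, c] x' ![b, d] y') := by
  obtain ⟨i, hi⟩ := root_pow_of_ne (hF := hF) h (div_ne_zero hx' hx)
  obtain ⟨j, hj⟩ := root_pow_of_ne (hF := hF) h (div_ne_zero hy' hy)
  obtain ⟨g, hg, hgv⟩ := diag_mem N (fun k => if k = a then i else j)
  have key : ∀ (a' c' : Fin 3) (r : ι), (fu (0 : Fin 2) g : GT).val r ![a', c'] =
      if r = ![a', c'] then ω ^ ((if a' = a then i else j : Fin 3) : ℕ) else 0 := by
    intro a' c' r
    rw [fu_val, hgv, fa0_col]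
    obtain ⟨r0, r1, rfl⟩ := pair_eta r
    by_cases e1 : r1 = c'
    · by_cases e0 : r0 = a'
      · subst e1; subst e0; simp
      · simp [e1, e0, funext_iff, Fin.forall_fin_two, Matrix.diagonal_apply_ne]
    · simp [e1, funext_iff, Fin.forall_fin_two]
  have := hv.mono hg (N.le hg) (key a c) (key b d)
  rwa [if_pos rfl, if_neg hab.symm, ← hi, ← hj, div_mul_cancel₀ _ hx, div_mul_cancel₀ _ hy] at this

theorem base_val (h2 : (2 : F) = 0) :
    (pair2 1 (Matrix.single 0 0 1) : MT) =
      1 + vecMulVec (pv ![1, 0] (1 : F) ![2, 0] 1) (fun y => σ (pv ![1, 0] (1 : F) ![2, 0] 1 y)) := by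
  ext x y
  obtain ⟨a, b, rfl⟩ := pair_eta x
  obtain ⟨c, d, rfl⟩ := pair_eta y
  rw [pair2_apply, Matrix.add_apply, Matrix.vecMulVec_apply]
  fin_cases a <;> fin_cases b <;> fin_cases c <;> fin_cases d <;>
    simp [Ep, Tm, pv, Matrix.one_apply, Pi.single_apply, funext_iff, Fin.forall_fin_two] <;> grind

include N in
/-- Moving a cell, given the transvection of the two cells. -/
theorem Ctv.move_cell {a : VT} (ha : Ctv hF H a) {q r : ι} (hq : a q ≠ 0) (hr : a r = 0)
    (hw : ∀ s : F, s ≠ 0 → Ctv hF H (pv q 1 r s)) {x : F} (hx : x ≠ 0) :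
    Ctv hF H (Function.update (Function.update a q 0) r x) := by
  have h2 := two_zero (hF := hF)
  have hqr : q ≠ r := fun e => hq (e ▸ hr)
  have := ha.add (hw (x / a q) (div_ne_zero hx hq)) N.le
  convert this using 1
  have hh : (a ⬝ᵥ fun y => σ (pv q 1 r (x / a q) y)) = a q := by
    rw [dotProduct, Finset.sum_eq_single q]
    · simp [pv, hqr]
    · intro y _ hy
      by_cases e : y = r
      · subst e; simp [hr]
      · simp [pv, hy, e]
    · simp
  rw [hh]
  funext y
  by_cases e : y = r
  · subst e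
    simp [pv, hqr.symm, hr]
    field_simp
  · by_cases e' : y = q
    · subst e'
      simp [pv, e]
      linear_combination -(a y) * h2
    · simp [pv, e, e']

variable (hB : Ctv hF H (pv ![1, 0] (1 : F) ![2, 0] 1))
include N hB

/-- Two cells of one column. -/
theorem ctv_col {a b : Fin 3} (hab : a ≠ b) (k : Fin 3) {x y : F} (hx : x ≠ 0) (hy : y ≠ 0) :
    Ctv hF H (pv ![a, k] x ![b, k] y) := by
  have h0 : Ctv hF H (pv ![a, 0] (1 : F) ![b, 0] 1) := by
    have s1 := hB.shift0 N
    have s2 := s1.shift0 N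
    have c0 := hB; have c1 := s1; have c2 := s2
    rw [pv_comm] at c0 c1 c2
    fin_cases a <;> fin_cases b <;> first
      | exact absurd rfl hab | exact hB | exact s1 | exact s2 | exact c0 | exact c1 | exact c2
  have hk : Ctv hF H (pv ![a, k] (1 : F) ![b, k] 1) := by
    fin_cases k
    · exact h0
    · exact h0.shift1 N
    · exact (h0.shift1 N).shift1 N
  exact hk.scale N hab one_ne_zero one_ne_zero hx hy

/-- Any two cells. -/
theorem ctv_pair {p q : ι} (hpq : p ≠ q) {x y : F} (hx : x ≠ 0) (hy : y ≠ 0) : Ctv hF H (pv p x q y) := by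
  obtain ⟨a, c, rfl⟩ := pair_eta p
  obtain ⟨b, d, rfl⟩ := pair_eta q
  by_cases hcd : c = d
  · subst hcd
    exact ctv_col N hB (fun e => hpq (by rw [e])) c hx hy
  by_cases hab : a = b
  · subst hab
    exact (ctv_col N hB hcd a hx hy).flip N
  -- go through the corner
  have hpm : (![a, c] : ι) ≠ ![a, d] := fun e => hcd (by simpa using congrFun e 1)
  have hmq : (![a, d] : ι) ≠ ![b, d] := fun e => hab (by simpa using congrFun e 0)
  have h0 : Ctv hF H (pv ![a, c] x ![a, d] 1) := (ctv_col N hB hcd a hx one_ne_zero).flip N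
  have hm := h0.move_cell N (q := ![a, d]) (r := ![b, d]) (by simp [pv, hpm.symm])
    (by simp [pv, hpq.symm, hmq.symm]) (fun s hs => ctv_col N hB hab d one_ne_zero hs) hy
  convert hm using 1
  funext z
  by_cases e1 : z = ![b, d]
  · subst e1; simp [pv, hpq.symm]
  · by_cases e2 : z = ![a, d]
    · subst e2; simp [pv, e1, hpm.symm]
    · simp [pv, e1, e2]

open scoped Classical in
/-- The cells of the support. -/
theorem ctv_gather {v : VT} : ∀ (n : ℕ) (a : VT), Ctv hF H a →
    (Finset.univ.filter fun x => a x ≠ 0).card = (Finset.univ.filter fun x => v x ≠ 0).card →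
    (Finset.univ.filter fun x => a x ≠ 0).card < 9 →
    (Finset.univ.filter fun x => v x ≠ 0 ∧ a x ≠ v x).card = n → Ctv hF H v := by
  classical
  intro n
  induction n using Nat.strong_induction_on with
  | _ n ih =>
    intro a ha hc hlt hn
    set A := Finset.univ.filter fun x => a x ≠ 0 with hA
    set B := Finset.univ.filter fun x => v x ≠ 0 with hBdef
    set D := Finset.univ.filter fun x => v x ≠ 0 ∧ a x ≠ v x with hD
    rcases D.eq_empty_or_nonempty with hDe | ⟨r, hr⟩
    · have hag : ∀ x, v x ≠ 0 → a x = v x := fun x hx => by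
        by_contra e
        have : x ∈ D := by simp [hD, hx, e]
        simp [hDe] at this
      have hBA : B ⊆ A := fun x hx => by
        simp only [hA, hBdef, Finset.mem_filter, Finset.mem_univ, true_and] at hx ⊢
        rw [hag x hx]; exact hx
      have hEq := Finset.eq_of_subset_of_card_le hBA (le_of_eq hc)
      have : a = v := funext fun x => by
        by_cases hx : v x = 0
        · rw [hx]
          by_contra e
          have hxA : x ∈ A := by simp [hA, e]
          rw [← hEq] at hxA
          simp [hBdef, hx] at hxA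
        · exact hag x hx
      exact this ▸ ha
    obtain ⟨-, hvr, har⟩ : r ∈ Finset.univ ∧ v r ≠ 0 ∧ a r ≠ v r := by
      simpa [hD] using hr
    have pairs : ∀ {q r : ι}, q ≠ r → ∀ s : F, s ≠ 0 → Ctv hF H (pv q 1 r s) :=
      fun hqr s hs => ctv_pair N hB hqr one_ne_zero hs
    suffices hstep : ∃ a' : VT, Ctv hF H a' ∧ (Finset.univ.filter fun x => a' x ≠ 0).card = A.card ∧
        (Finset.univ.filter fun x => v x ≠ 0 ∧ a' x ≠ v x) ⊆ D.erase r by
      obtain ⟨a', ha', hc', hD'⟩ := hstep
      refine ih _ ?_ a' ha' (hc'.trans hc) (hc' ▸ hlt) rfl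
      rw [← hn]
      exact lt_of_le_of_lt (Finset.card_le_card hD') (Finset.card_erase_lt_of_mem hr)
    by_cases har0 : a r = 0
    · obtain ⟨q, hqA, hqB⟩ : ∃ q, a q ≠ 0 ∧ v q = 0 := by
        by_contra hno
        push Not at hno
        have hAB : A ⊆ B := fun x hx => by
          simp only [hA, hBdef, Finset.mem_filter, Finset.mem_univ, true_and] at hx ⊢
          exact hno x hx
        have hrA : r ∈ A := (Finset.eq_of_subset_of_card_le hAB (le_of_eq hc.symm)).symm ▸ (by simp [hBdef, hvr])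
        simp [hA, har0] at hrA
      have hqr : q ≠ r := fun e => hqA (e ▸ har0)
      refine ⟨_, ha.move_cell N hqA har0 (pairs hqr) hvr, ?_, fun x hx => ?_⟩
      · have e : (Finset.univ.filter fun x => Function.update (Function.update a q 0) r (v r) x ≠ 0) =
            insert r (A.erase q) := by
          ext x
          by_cases e1 : x = r
          · subst e1; simp [hvr]
          · by_cases e2 : x = q
            · subst e2; simp [e1]
            · simp [hA, e1, e2]
        rw [e, Finset.card_insert_of_notMem (by simp [hA, har0]), Finset.card_erase_of_mem (by simp [hA, hqA])]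
        have : 0 < A.card := Finset.card_pos.2 ⟨q, by simp [hA, hqA]⟩
        omega
      · simp only [Finset.mem_filter, Finset.mem_univ, true_and] at hx
        have e1 : x ≠ r := fun e => hx.2 (by subst e; simp)
        have e2 : x ≠ q := fun e => hx.1 (e ▸ hqB)
        simp [hD, e1, e2] at hx ⊢
        exact hx
    · obtain ⟨m, hm⟩ : ∃ m, a m = 0 := by
        by_contra hno
        push Not at hno
        have : A = Finset.univ := by
          ext x; simp [hA, hno x]
        rw [this] at hlt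
        simp at hlt
      have hrm : r ≠ m := fun e => har0 (e ▸ hm)
      have h1 := ha.move_cell N har0 hm (pairs hrm) one_ne_zero
      have h2' := h1.move_cell N (q := m) (r := r) (by simp) (by simp [hrm]) (pairs hrm.symm) hvr
      refine ⟨_, h2', ?_, fun x hx => ?_⟩
      · congr 1
        ext x
        by_cases e1 : x = r
        · subst e1; simp [hA, hvr, har0]
        · by_cases e2 : x = m
          · subst e2; simp [hA, e1, hm]
          · simp [hA, e1, e2]
      · simp only [Finset.mem_filter, Finset.mem_univ, true_and] at hx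
        have e1 : x ≠ r := fun e => hx.2 (by subst e; simp)
        by_cases e2 : x = m
        · subst e2
          simp [hD, e1, hm, hx.1]
          exact fun e => hx.1 e.symm
        · simp [hD, e1, e2] at hx ⊢
          exact hx

open scoped Classical in
theorem ctv_of_seed {a v : VT} (ha : Ctv hF H a) (n : ℕ) (hn : (Finset.univ.filter fun x => a x ≠ 0).card = n)
    (hv : (Finset.univ.filter fun x => v x ≠ 0).card = n) (h9 : n < 9) : Ctv hF H v :=
  ctv_gather N hB _ a ha (hn.trans hv.symm) (hn ▸ h9) rfl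

/-- The seed of weight six. -/
theorem ctv_six : Ctv hF H (fun x => if x 0 = 0 then 0 else 1) := by
  have h2 := two_zero (hF := hF)
  have := hB.conj (N.swap N.f) (N.le (N.swap N.f))
  convert this using 1
  funext r
  rw [pv, Matrix.mulVec_add, Pi.add_apply, fa_col, fa_col, fu_val, tG_val, fa1_col, fa1_col]
  obtain ⟨r0, r1, rfl⟩ := pair_eta r
  have hs : ω - ω * ω = 1 := by linear_combination h.eq - (1 + ω * ω) * h2
  show _ = (if _ then Fm ω r1 0 else 0) * 1 + (if _ then Fm ω r1 0 else 0) * 1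
  rw [Fm, hs, inv_one, one_smul]
  fin_cases r0 <;> fin_cases r1 <;> simp

/-- Every isotropic vector is a centre. -/
theorem ctv_all {v : VT} (hv : (v ⬝ᵥ fun y => σ (v y)) = 0) : Ctv hF H v := by
  classical
  have h2 := two_zero (hF := hF)
  haveI : CharP F 2 := CharTwo.of_one_ne_zero_of_two_eq_zero one_ne_zero h2
  have hne : (ω : F) ≠ 0 := h.ne_zero
  have h1ω : (1 : F) + ω ≠ 0 := fun e => h.ne_one (by linear_combination e - h2)
  have h1ω2 : (1 : F) + ω * ω ≠ 0 := fun e => h.sq_ne (by linear_combination e - h2)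
  have hσ : σ ω = ω * ω := by rw [frob_apply, pow_two]
  have he := h.eq
  set B := Finset.univ.filter fun x => v x ≠ 0 with hBd
  have hev : 2 ∣ B.card := by
    refine (CharP.cast_eq_zero_iff F 2 _).1 ?_
    rw [dotProduct, ← Finset.sum_filter_add_sum_filter_not Finset.univ (fun x => v x ≠ 0),
      Finset.sum_congr rfl (fun x hx => norm_four (hF := hF) (Finset.mem_filter.1 hx).2),
      Finset.sum_eq_zero (s := Finset.univ.filter fun x => ¬ v x ≠ 0) (fun x hx => by
        have : v x = 0 := by simpa using (Finset.mem_filter.1 hx).2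
        rw [this, zero_mul]), add_zero, Finset.sum_const, nsmul_one] at hv
    exact hv
  have hle : B.card ≤ 9 := (Finset.card_le_univ B).trans (le_of_eq rfl)
  set A6 : VT := fun x => if x 0 = 0 then 0 else 1 with hA6
  have a6 : Ctv hF H A6 := ctv_six N hB
  have c6 : (Finset.univ.filter fun x => A6 x ≠ 0).card = 6 := by
    have e : (Finset.univ.filter fun x => A6 x ≠ 0) = Finset.univ.filter fun x => x 0 ≠ 0 := by
      ext x; simp [hA6]
    rw [e]; decide
  rcases (show B.card = 0 ∨ B.card = 2 ∨ B.card = 4 ∨ B.card = 6 ∨ B.card = 8 by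
    obtain ⟨k, hk⟩ := hev; omega) with e | e | e | e | e
  · have : v = 0 := funext fun x => by
      by_contra hx
      have hxB : x ∈ B := by simp [hBd]; exact hx
      rw [Finset.card_eq_zero.1 e] at hxB
      simp at hxB
    subst this
    exact ⟨1, H.one_mem, by simp⟩
  · refine ctv_of_seed N hB hB 2 ?_ e (by norm_num)
    have e' : (Finset.univ.filter fun x => pv ![1, 0] (1 : F) ![2, 0] 1 x ≠ 0) =
        ({![1, 0], ![2, 0]} : Finset ι) := by
      ext x
      obtain ⟨a, b, rfl⟩ := pair_eta x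
      fin_cases a <;> fin_cases b <;> simp [pv, Pi.single_apply, funext_iff, Fin.forall_fin_two]
    rw [e']; decide
  · set b : VT := fun x => if x = ![0, 0] then 1 else if x = ![1, 0] then 1 else if x = ![1, 1] then 1 else
      if x = ![1, 2] then 1 else if x = ![2, 0] then ω * ω else if x = ![2, 1] then ω * ω else 0 with hb
    have cb : (Finset.univ.filter fun x => b x ≠ 0).card = 6 := by
      have e' : (Finset.univ.filter fun x => b x ≠ 0) =
          ({![0, 0], ![1, 0], ![1, 1], ![1, 2], ![2, 0], ![2, 1]} : Finset ι) := by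
        ext x
        obtain ⟨i, j, rfl⟩ := pair_eta x
        fin_cases i <;> fin_cases j <;> simp [hb, hne, funext_iff, Fin.forall_fin_two]
      rw [e']; decide
    have hh : (A6 ⬝ᵥ fun y => σ (b y)) = 1 := by
      rw [dotProduct, sum_pairs]
      simp [Fin.sum_univ_three, hA6, hb, hσ, funext_iff, Fin.forall_fin_two]
      grind
    have := a6.add (ctv_of_seed N hB a6 6 c6 cb (by norm_num)) N.le
    rw [hh, one_smul] at this
    refine ctv_of_seed N hB this 4 ?_ e (by norm_num)
    have e' : (Finset.univ.filter fun x => (A6 + b) x ≠ 0) =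
        ({![0, 0], ![2, 0], ![2, 1], ![2, 2]} : Finset ι) := by
      ext x
      obtain ⟨i, j, rfl⟩ := pair_eta x
      fin_cases i <;> fin_cases j <;> simp [hA6, hb, h1ω2, funext_iff, Fin.forall_fin_two] <;> grind
    rw [e']; decide
  · exact ctv_of_seed N hB a6 6 c6 e (by norm_num)
  · set b : VT := fun x => if x = ![0, 1] then 1 else if x = ![0, 2] then 1 else if x = ![1, 1] then ω * ω else
      if x = ![1, 2] then ω else if x = ![2, 1] then ω else if x = ![2, 2] then ω else 0 with hb
    have cb : (Finset.univ.filter fun x => b x ≠ 0).card = 6 := by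
      have e' : (Finset.univ.filter fun x => b x ≠ 0) =
          ({![0, 1], ![0, 2], ![1, 1], ![1, 2], ![2, 1], ![2, 2]} : Finset ι) := by
        ext x
        obtain ⟨i, j, rfl⟩ := pair_eta x
        fin_cases i <;> fin_cases j <;> simp [hb, hne, funext_iff, Fin.forall_fin_two]
      rw [e']; decide
    have hh : (A6 ⬝ᵥ fun y => σ (b y)) = 1 := by
      rw [dotProduct, sum_pairs]
      simp [Fin.sum_univ_three, hA6, hb, hσ, funext_iff, Fin.forall_fin_two]
      grind
    have := a6.add (ctv_of_seed N hB a6 6 c6 cb (by norm_num)) N.le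
    rw [hh, one_smul] at this
    refine ctv_of_seed N hB this 8 ?_ e (by norm_num)
    have e' : (Finset.univ.filter fun x => (A6 + b) x ≠ 0) = (Finset.univ.erase (![0, 0] : ι)) := by
      ext x
      obtain ⟨i, j, rfl⟩ := pair_eta x
      fin_cases i <;> fin_cases j <;> simp [hA6, hb, h1ω, h1ω2, funext_iff, Fin.forall_fin_two]
    rw [e']; decide

omit hB in
/-- One transvection gives everything. -/
theorem top_of_tv (h2 : (2 : F) = 0) (hK : wU h2 (Matrix.single 0 0 1) ∈ H) :
    ∀ g : GT, g ∈ UG σ ι → g.val.det = 1 → g ∈ H := by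
  have hB : Ctv hF H (pv ![1, 0] (1 : F) ![2, 0] 1) := ⟨_, hK, by rw [wU_val]; exact base_val h2⟩
  intro g hg hd
  obtain ⟨e⟩ : Nonempty (Fin 9 ≃ ι) := ⟨(finFunctionFinEquiv (m := 3) (n := 2)).symm⟩
  set ψ := frU e (1 : GL (Fin 9) F) with hψ
  suffices hS : Cfsg.GU 9 F 2 ⊓ Cfsg.Geo.specialLinear (Fin 9) F ≤ H.map ψ.toMonoidHom by
    have : ψ g ∈ Cfsg.GU 9 F 2 ⊓ Cfsg.Geo.specialLinear (Fin 9) F :=
      ⟨(mem_GU_iff hF).2 ((frU_one_UG e g).2 hg), MonoidHom.mem_ker.2 (Units.ext (by
        rw [Matrix.GeneralLinearGroup.val_det_apply, Units.val_one]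
        rw [hψ, frU_one_val, Matrix.det_submatrix_equiv_self, hd]))⟩
    obtain ⟨g', hg', he'⟩ := hS this
    exact ψ.injective he' ▸ hg'
  refine SU_le_of_ctr (hF := hF) (by norm_num) ?_
  intro v hv g' c hc hg'
  have hc01 : c = 0 ∨ c = 1 := by
    rw [frob_apply] at hc
    have h1 : c * (c - 1) = 0 := by linear_combination hc - c * h2
    exact (mul_eq_zero.1 h1).imp id sub_eq_zero.1
  rcases hc01 with rfl | rfl
  · refine ⟨1, H.one_mem, ?_⟩
    rw [map_one]
    refine Units.ext ?_
    rw [hg', Cfsg.unitaryTransvection, zero_smul, add_zero, Units.val_one]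
  set w : VT := v ∘ e.symm with hw
  have hwe : v = w ∘ e := by rw [hw, Function.comp_assoc, Equiv.symm_comp_self, Function.comp_id]
  have hiso : (w ⬝ᵥ fun y => σ (w y)) = 0 := by
    rw [← hv, dotProduct, ← e.sum_comp]
    exact Finset.sum_congr rfl fun a _ => by simp [hw, frob_apply]
  obtain ⟨t, ht, htv⟩ := ctv_all N hB hiso
  refine ⟨t, ht, Units.ext ?_⟩
  show (ψ t).val = g'.val
  rw [hψ, frU_one_val, htv, hg', Cfsg.unitaryTransvection, one_smul]
  ext a b
  simp [Matrix.one_apply, Matrix.vecMulVec_apply, hwe, frob_apply]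

end CfsgLib.MaxSub.SUNine
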