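/-
The normalisers of the class-six groups in degree nine are maximal in the special unitary group.
-/
import Cfsg.Agent.Lib.MaxSub.SUNine.Five
import Cfsg.Agent.Lib.MaxSub.SUNine.Dichotomy
import Cfsg.Agent.Lib.MaxSub.SUNine.PairOdd
import Cfsg.Agent.Lib.MaxSub.SUNine.Big
import Cfsg.Agent.Lib.MaxSub.SUNine.TwoJJ
import Cfsg.Agent.Lib.MaxSub.SUNine.TwoTop

set_option autoImplicit false
set_option maxHeartbeats 800000
set_option linter.unusedSectionVars false
set_option linter.style.haveILetI false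

namespace CfsgLib.MaxSub.SUNine

open Matrix CfsgLib.UnitaryTransvection
open CfsgLib.MaxSub.SLThree.Hess (Root Xm Ym sX sY sF sG sT px py E)
open CfsgLib.MaxSub.SLNine
open CfsgLib.MaxSub.TensorPow
open CfsgLib.Aschbacher (frU frU_val frAlg_apply)

universe u

variable {F : Type u} [Field F] {ω : F}

local notation "mk'" => CfsgLib.MaxSub.SLThree.Hess.mk
local notation "G3" => GL (Fin 3) F
local notation "GT" => GL (Fin 2 → Fin 3) F
local notation "MT" => Matrix (Fin 2 → Fin 3) (Fin 2 → Fin 3) F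
local notation "SL" => Matrix.SpecialLinearGroup (Fin 3) F
local notation "P3" => Matrix.ProjectiveSpecialLinearGroup (Fin 3) F

theorem det_eq_one_of_fu {A : G3} (hA : A.val.det ^ 3 = 1) (i : Fin 2) : (fu i A : GT).val.det = 1 := by
  rw [fu_val, det_fa]
  exact hA

variable [Fintype F]

/-- A factor element normalising the group normalises the small group. -/
theorem nz_of_fu_norm (h : Root ω) {S : SL}
    (hm : fu (0 : Fin 2) (tG S) ∈ Cfsg.Geo.subgroupNormalizer (R0 h)) : Nz h (tG S) := by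
  have key : ∀ T : SL, T ∈ R1 h → (mk' (S * T * S⁻¹) : P3) ∈ E h := by
    intro T hT
    have h1 := (Subgroup.mem_normalizer_iff.1 hm (q2 (T, 1))).1 (q2_mem_R0 h hT (one_mem _))
    obtain ⟨U, hU, U', -, he'⟩ := R0_form h h1
    rw [← q2_left, ← map_inv, ← map_mul, ← map_mul, Prod.inv_mk, Prod.mk_mul_mk, Prod.mk_mul_mk, one_mul,
      inv_one, mul_one] at he'
    have h2 : (fa (0 : Fin 2) (U⁻¹ * (S * T * S⁻¹)).1 * fa 1 (U'⁻¹ * 1).1 : MT) = (1 : F) • 1 := by
      rw [one_smul, ← q2_val, ← Prod.mk_mul_mk, map_mul, he', ← map_mul, Prod.mk_mul_mk, inv_mul_cancel,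
        inv_mul_cancel]
      exact congrArg Units.val (map_one q2)
    obtain ⟨⟨a, ha⟩, -⟩ := scalar_of_kron one_ne_zero h2
    have h4 : (mk' (U⁻¹ * (S * T * S⁻¹)) : P3) = 1 := CfsgLib.MaxSub.SLThree.Hess.mk_eq_one.2 ⟨a, by
      have := (U⁻¹ * (S * T * S⁻¹)).2
      rwa [ha, Matrix.det_smul, Matrix.det_one, mul_one, Fintype.card_fin] at this, ha⟩
    rw [map_mul, map_inv, inv_mul_eq_one] at h4
    rw [← h4]
    exact R1_mk h hU
  refine ⟨?_, ?_⟩ <;> rw [pconj_tG]
  · have := key (sX h) (sX_mem h)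
    rwa [map_mul, map_mul, map_inv] at this
  · have := key sY (sY_mem h)
    rwa [map_mul, map_mul, map_inv] at this

/-- The reflection normalises. -/
theorem rr_piece (h : Root ω) : fu (0 : Fin 2) (rr h) ∈ Cfsg.Geo.subgroupNormalizer (R0 h) := by
  have gen : ∀ i : Fin 2, ∀ T ∈ R1 h, fu i (tG T) ∈ R0 h := fun i T hT => by
    fin_cases i
    · show fu 0 (tG T) ∈ _
      rw [← q2_left]; exact q2_mem_R0 h hT (one_mem _)
    · show fu 1 (tG T) ∈ _
      rw [← q2_right]; exact q2_mem_R0 h (one_mem _) hT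
  have hX : rr h * tG (sX h) * (rr h)⁻¹ = tG (sX h) := by
    rw [mul_inv_eq_iff_eq_mul]
    refine Units.ext ?_
    rw [Units.val_mul, Units.val_mul, rr_val, tG_val]
    show Matrix.diagonal _ * Xm ω = Xm ω * Matrix.diagonal _
    rw [Xm, Matrix.diagonal_mul_diagonal, Matrix.diagonal_mul_diagonal]
    congr 1; funext i; exact mul_comm _ _
  have hY : rr h * tG (sY : SL) * (rr h)⁻¹ = tG (sZ h * (sX h * sY)) := by
    rw [mul_inv_eq_iff_eq_mul]
    refine Units.ext ?_
    rw [Units.val_mul, Units.val_mul, rr_val, tG_val, tG_val, CfsgLib.MaxSub.SLThree.Hess.val_mul,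
      CfsgLib.MaxSub.SLThree.Hess.val_mul]
    show Matrix.diagonal _ * Ym = ω • 1 * (Xm ω * Ym) * Matrix.diagonal _
    have := h.cube
    ext i j
    fin_cases i <;> fin_cases j <;> simp [Xm, Ym, Matrix.mul_apply, Fin.sum_univ_three] <;> grind
  have hR : sZ h * (sX h * sY) ∈ R1 h :=
    mul_mem (center_le_R1 h (sZ_center h)) (mul_mem (sX_mem h) (sY_mem h))
  have c1 : ∀ T : SL, fu (0 : Fin 2) (rr h) * fu 1 (tG T) * (fu 0 (rr h))⁻¹ = (fu 1 (tG T) : GT) := fun T => by
    rw [fu_comm, mul_inv_cancel_right]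
  refine norm_R0 h (fun i => ?_) (fun i => ?_) <;> fin_cases i
  · show fu (0 : Fin 2) (rr h) * fu 0 _ * _ ∈ _
    rw [← map_inv, ← map_mul, ← map_mul, hX]; exact gen 0 _ (sX_mem h)
  · show fu (0 : Fin 2) (rr h) * fu 1 _ * _ ∈ _
    rw [c1]; exact gen 1 _ (sX_mem h)
  · show fu (0 : Fin 2) (rr h) * fu 0 _ * _ ∈ _
    rw [← map_inv, ← map_mul, ← map_mul, hY]; exact gen 0 _ hR
  · show fu (0 : Fin 2) (rr h) * fu 1 _ * _ ∈ _
    rw [c1]; exact gen 1 _ (sY_mem h)

/-- In the given situation the group is unitary. -/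
theorem le_GU_nine {p : ℕ} (hF : Fintype.card F = p ^ 2) [Fact p.Prime] [CharP F p] (hp3 : p % 3 = 2)
    {R : Subgroup (GL (Fin 9) F)} (hexp : ∀ g ∈ R, g ^ 3 = 1)
    (hRs : R ≤ Cfsg.Geo.similarityGroup (Cfsg.hermForm 9 F p)) : R ≤ Cfsg.GU 9 F p := by
  intro g hg
  obtain ⟨c, hc⟩ := hRs hg
  have h1 : Cfsg.hermForm 9 F p (Pi.single 0 1) (Pi.single 0 1) = 1 := by
    rw [Cfsg.hermForm, Finset.sum_eq_single 0 (fun i _ hi => by simp [hi]) (by simp)]
    simp
  have hcu : (c : F) ^ 3 = 1 := by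
    have e : Cfsg.hermForm 9 F p ((g ^ 3 : GL (Fin 9) F).1 *ᵥ Pi.single 0 1)
        ((g ^ 3 : GL (Fin 9) F).1 *ᵥ Pi.single 0 1) =
        (c : F) ^ 3 * Cfsg.hermForm 9 F p (Pi.single 0 1) (Pi.single 0 1) := by
      rw [pow_succ', pow_two]
      simp only [Units.val_mul, ← Matrix.mulVec_mulVec, hc]
      ring
    rw [hexp g hg, Units.val_one, Matrix.one_mulVec, h1, mul_one] at e
    exact e.symm
  have hcσ : (c : F) ^ p = c := by
    have e := hc (Pi.single 0 1) (Pi.single 0 1)
    rw [h1, mul_one] at e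
    have := h_swap hF (g.1 *ᵥ Pi.single 0 1) (g.1 *ᵥ Pi.single 0 1)
    rwa [e, frob_apply] at this
  have hc1 : (c : F) = 1 := by
    have h1 : (c : F) ^ (p - 1) = 1 := by
      refine mul_right_cancel₀ c.ne_zero ?_
      rw [one_mul, ← pow_succ, Nat.sub_add_cancel (Fact.out : p.Prime).one_le, hcσ]
    rwa [← Nat.mod_add_div (p - 1) 3, show (p - 1) % 3 = 1 by omega, pow_add, pow_mul, hcu, one_pow, mul_one,
      pow_one] at h1
  intro u v
  show Cfsg.hermForm 9 F p (g.1 *ᵥ u) (g.1 *ᵥ v) = _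
  rw [hc, hc1, one_mul]

open Cfsg.Geo in
/-- The normalisers of the class-six groups in degree nine are maximal in the special unitary group. -/
theorem su9_symplectic_maximal {q p : ℕ} (hF : Fintype.card F = q ^ 2) {R : Subgroup (GL (Fin 9) F)}
    (hp : p.Prime) (hqp : q = p) (hp3 : p % 3 = 2) (hR : IsSymplecticTypeGroup 3 R)
    (habs : ActsAbsolutelyIrreducibly (matrixSet R)) (hRs : R ≤ similarityGroup (Cfsg.hermForm 9 F q))
    (h243 : Nat.card R = 243) (hZ : Nat.card (Subgroup.center R) = 3) :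
    IsMaximalIn (Cfsg.GU 9 F q ⊓ specialLinear (Fin 9) F)
      (subgroupNormalizer R ⊓ (Cfsg.GU 9 F q ⊓ specialLinear (Fin 9) F)) := by
  classical
  subst hqp
  haveI : Fact q.Prime := ⟨hp⟩
  haveI hchar : CharP F q := by
    obtain ⟨r, hr⟩ := CharP.exists F
    obtain ⟨n, hrp, hn⟩ := FiniteField.card F r
    have : r = q := (Nat.prime_dvd_prime_iff_eq hrp hp).1
      (hrp.dvd_of_dvd_pow (by rw [← hF, hn]; exact dvd_pow_self r n.pos.ne'))
    exact this ▸ hr
  have h3 : (3 : F) ≠ 0 := fun e => by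
    have hdv := (CharP.cast_eq_zero_iff F q 3).1 (by exact_mod_cast e)
    have := (Nat.prime_dvd_prime_iff_eq hp Nat.prime_three).1 hdv
    omega
  have hS : Sympl R := ⟨hR, habs, hZ, by omega⟩
  have hRU := le_GU_nine hF hp3 (rel_of_data h3 hS).1 hRs
  obtain ⟨ω, h, e, B, rfl⟩ := exists_frame h3 (Fintype.card_fin 9) hS
  set σ := frob hF with hσ
  set φ := frU e B with hφ
  set ψ := frU e (1 : GL (Fin 9) F) with hψ
  have hφψ : ∀ g : GT, φ g = B * ψ g * B⁻¹ := fun g => Units.ext (by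
    rw [hφ, hψ, frU_val, frAlg_apply, Units.val_mul, Units.val_mul, frU_val, frAlg_apply]
    simp)
  have g0U : ∀ i : Fin 2, fu i (tG (sX h)) ∈ UG σ (Fin 2 → Fin 3) ∧ fu i (tG (sY : SL)) ∈ UG σ (Fin 2 → Fin 3) :=
    fun i => ⟨fu_UG.2 (gX_UG hF hp3 h), fu_UG.2 (gY_UG hF)⟩
  -- the frame is orthogonal up to a scalar
  set NB : Matrix (Fin 9) (Fin 9) F := B.valᵀ * B.val.map σ with hNB
  have hconj : ∀ g : GT, φ g ∈ UG σ (Fin 9) ↔ (ψ g).valᵀ * NB * (ψ g).val.map σ = NB := by
    intro g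
    rw [hφψ, mem_UG, Units.val_mul, Units.val_mul, Matrix.transpose_mul, Matrix.transpose_mul, Matrix.map_mul,
      Matrix.map_mul]
    have i1 : (B⁻¹ : GL (Fin 9) F).valᵀ * B.valᵀ = 1 := by rw [← Matrix.transpose_mul, Units.mul_inv, Matrix.transpose_one]
    have i2 : B.valᵀ * (B⁻¹ : GL (Fin 9) F).valᵀ = 1 := by rw [← Matrix.transpose_mul, Units.inv_mul, Matrix.transpose_one]
    have i3 : (B⁻¹ : GL (Fin 9) F).val.map σ * B.val.map σ = 1 := by
      rw [← Matrix.map_mul, Units.inv_mul, Matrix.map_one _ (map_zero σ) (map_one σ)]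
    have i4 : B.val.map σ * (B⁻¹ : GL (Fin 9) F).val.map σ = 1 := by
      rw [← Matrix.map_mul, Units.mul_inv, Matrix.map_one _ (map_zero σ) (map_one σ)]
    constructor
    · intro he
      calc (ψ g).valᵀ * NB * (ψ g).val.map σ
          = (B.valᵀ * (B⁻¹ : GL (Fin 9) F).valᵀ) * ((ψ g).valᵀ * NB * (ψ g).val.map σ) *
            ((B⁻¹ : GL (Fin 9) F).val.map σ * B.val.map σ) := by rw [i2, i3, one_mul, mul_one]
        _ = B.valᵀ * ((B⁻¹ : GL (Fin 9) F).valᵀ * ((ψ g).valᵀ * B.valᵀ) *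
            (B.val.map σ * (ψ g).val.map σ * (B⁻¹ : GL (Fin 9) F).val.map σ)) * B.val.map σ := by
            rw [hNB]; simp only [mul_assoc]
        _ = NB := by rw [he, mul_one]
    · intro he
      calc _ = (B⁻¹ : GL (Fin 9) F).valᵀ * ((ψ g).valᵀ * NB * (ψ g).val.map σ) *
            (B⁻¹ : GL (Fin 9) F).val.map σ := by rw [hNB]; simp only [mul_assoc]
        _ = ((B⁻¹ : GL (Fin 9) F).valᵀ * B.valᵀ) * (B.val.map σ * (B⁻¹ : GL (Fin 9) F).val.map σ) := by
            rw [he, hNB]; simp only [mul_assoc]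
        _ = 1 := by rw [i1, i4, one_mul]
  obtain ⟨c, hc0, hc⟩ : ∃ c : F, c ≠ 0 ∧ NB = c • 1 := by
    set M : MT := NBᵀ.submatrix e.symm e.symm with hM
    have hcomm : ∀ g : GT, g ∈ R0 h → g ∈ UG σ (Fin 2 → Fin 3) → M * g.val = g.val * M := by
      intro g hg hgU
      have h1 := (hconj g).1 ((mem_GU_iff hF).1 (hRU ⟨g, hg, rfl⟩))
      have h2 := mem_UG.1 ((frU_one_UG (hF := hF) e g).2 hgU)
      have hinv : (ψ g).val.map σ * (ψ g).valᵀ = 1 := mul_eq_one_comm.1 h2
      have h4 : (ψ g).valᵀ * NB = NB * (ψ g).valᵀ := by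
        calc (ψ g).valᵀ * NB = (ψ g).valᵀ * NB * ((ψ g).val.map σ * (ψ g).valᵀ) := by rw [hinv, mul_one]
          _ = NB * (ψ g).valᵀ := by rw [← mul_assoc, h1]
      have h5 := congrArg (fun Z => Zᵀ.submatrix e.symm e.symm) h4
      simp only [Matrix.transpose_mul, Matrix.transpose_transpose] at h5
      rw [← Matrix.submatrix_mul_equiv _ _ e.symm e.symm e.symm, ← Matrix.submatrix_mul_equiv _ _ e.symm e.symm e.symm,
        hψ, frU_one_val, Matrix.submatrix_submatrix] at h5
      simpa [← hM] using h5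
    obtain ⟨c, hc⟩ := scalar_of_comm4 h (M := M)
      (fun i => hcomm (fu i (tG (sX h))) (Subgroup.subset_closure (by fin_cases i <;> simp)) (g0U i).1)
      (fun i => hcomm (fu i (tG sY)) (Subgroup.subset_closure (by fin_cases i <;> simp)) (g0U i).2)
    have hN : NB = c • 1 := by
      ext a b
      have := congrFun (congrFun hc (e b)) (e a)
      simp [hM, Matrix.one_apply] at this
      simp [Matrix.one_apply, this, eq_comm]
    refine ⟨c, fun e0 => ?_, hN⟩
    rw [e0, zero_smul, hNB] at hN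
    have h1 := congrArg Matrix.det hN
    rw [Matrix.det_mul, Matrix.det_transpose, Matrix.det_zero,
      show (B.val.map σ).det = σ B.val.det from (RingHom.map_det σ B.val).symm] at h1
    have hd : B.val.det ≠ 0 := ((Matrix.isUnit_iff_isUnit_det _).1 B.isUnit).ne_zero
    exact hd ((mul_eq_zero.1 h1).elim id (map_eq_zero σ).1)
  have hU : ∀ g : GT, φ g ∈ Cfsg.GU 9 F q ↔ g ∈ UG σ (Fin 2 → Fin 3) := by
    intro g
    rw [mem_GU_iff hF, hconj, hc, Matrix.mul_smul, mul_one, Matrix.smul_mul, ← frU_one_UG (hF := hF) e g, mem_UG]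
    exact ⟨fun he => smul_right_injective _ hc0 he, fun he => by rw [he]⟩
  have hdet : ∀ g : GT, (φ g : GL (Fin 9) F).val.det = g.val.det := fun g => by
    rw [hφ, frU_val, frAlg_apply, Matrix.det_units_conj, Matrix.det_submatrix_equiv_self]
  have hG : ∀ g : GT, φ g ∈ Cfsg.GU 9 F q ⊓ specialLinear (Fin 9) F ↔ g ∈ UG σ (Fin 2 → Fin 3) ∧ g.val.det = 1 := by
    intro g
    rw [Subgroup.mem_inf, hU g]
    refine and_congr_right fun _ => ?_
    unfold specialLinear
    rw [MonoidHom.mem_ker, Units.ext_iff, Matrix.GeneralLinearGroup.val_det_apply, Units.val_one, hdet g]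
  have hN : ∀ g : GT, φ g ∈ subgroupNormalizer ((R0 h).map φ.toMonoidHom) ↔ g ∈ subgroupNormalizer (R0 h) := fun g => by
    show φ g ∈ Subgroup.normalizer (((R0 h).map φ.toMonoidHom : Subgroup (GL (Fin 9) F)) : Set (GL (Fin 9) F)) ↔
      g ∈ Subgroup.normalizer (R0 h : Set GT)
    rw [Subgroup.mem_normalizer_iff, Subgroup.mem_normalizer_iff]
    constructor
    · intro hh z
      have := hh (φ z)
      rw [← map_inv, ← map_mul, ← map_mul] at this
      exact ((Subgroup.mem_map_iff_mem φ.injective).symm.trans this).trans (Subgroup.mem_map_iff_mem φ.injective)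
    · intro hh z
      obtain ⟨z, rfl⟩ := φ.surjective z
      rw [← map_inv, ← map_mul, ← map_mul]
      exact ((Subgroup.mem_map_iff_mem φ.injective).trans (hh z)).trans (Subgroup.mem_map_iff_mem φ.injective).symm
  obtain ⟨pX, pY, pf', pg', pt', pw⟩ := pieces h
  refine ⟨lt_of_le_of_ne inf_le_right fun he => ?_, fun M hM hMS => ?_⟩
  · have hall : ∀ g : GT, g ∈ UG σ (Fin 2 → Fin 3) → g.val.det = 1 → g ∈ subgroupNormalizer (R0 h) := by
      intro g hg hd
      have h1 : φ g ∈ subgroupNormalizer ((R0 h).map φ.toMonoidHom) ⊓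
          (Cfsg.GU 9 F q ⊓ specialLinear (Fin 9) F) := by
        rw [he]; exact (hG g).2 ⟨hg, hd⟩
      exact (hN g).1 h1.1
    by_cases hq2 : q = 2
    · subst hq2
      have h2 := two_zero (hF := hF)
      set E0 : Matrix (Fin 3) (Fin 3) F := Matrix.single 0 0 1 with hE0
      have hd : (wU h2 E0).val.det = 1 := by
        have h1 : (wU h2 E0).val.det * (wU h2 E0).val.det = 1 := by
          rw [← Matrix.det_mul, wU_val, pair2_mul h2, one_mul, mul_one, one_mul, ← two_smul F E0, h2, zero_smul,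
            pair2_one, Matrix.det_one]
        have h4 : ((wU h2 E0).val.det - 1) * ((wU h2 E0).val.det - 1) = 0 := by
          linear_combination h1 + (1 - (wU h2 E0).val.det) * h2
        exact sub_eq_zero.1 (mul_self_eq_zero.1 h4)
      have hUt : wU h2 E0 ∈ UG σ (Fin 2 → Fin 3) := by
        rw [mem_UG, wU_val]
        have hT : (pair2 1 E0 : MT)ᵀ = pair2 1 E0 := by
          rw [pair2, Matrix.transpose_add, Matrix.transpose_mul, fa_transpose, fa_transpose, fa_transpose,
            Ep_transpose, (fa_commute (one_ne_zero : (1 : Fin 2) ≠ 0) E0ᵀ Ep).eq, Matrix.transpose_one, hE0,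
            Matrix.transpose_single]
        have hMp : (pair2 1 E0 : MT).map σ = pair2 1 E0 := by
          rw [pair2, Matrix.map_add _ (map_add σ), Matrix.map_mul, fa_map, fa_map, fa_map, Ep_map,
            Matrix.map_one _ (map_zero σ) (map_one σ), hE0, Matrix.map_single _ _ _ σ, map_one σ]
        rw [hT, hMp, pair2_mul h2, one_mul, mul_one, one_mul, ← two_smul F E0, h2, zero_smul, pair2_one]
      have hn := hall _ hUt hd
      have hm := Subgroup.mem_normalizer_iff.1 hn (fu 1 (tG (sY : SL)))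
      have hg : fu 1 (tG (sY : SL)) ∈ R0 h := Subgroup.subset_closure (by simp)
      have hc' := mul_mem (hm.1 hg) (inv_mem hg)
      have hti : (wU h2 E0)⁻¹ = wU h2 E0 := Units.ext rfl
      rw [hti, show wU h2 E0 * fu 1 (tG (sY : SL)) * wU h2 E0 * (fu 1 (tG (sY : SL)))⁻¹ =
        wU h2 E0 * (fu 1 (tG (sY : SL)) * wU h2 E0 * (fu 1 (tG (sY : SL)))⁻¹) by simp only [mul_assoc],
        wU_conj, ← wU_add] at hc'
      have h3' := R0_cube h hc'
      rw [pow_three, ← wU_add, ← wU_add] at h3'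
      have h5 := (pair2_inj ((congrArg Units.val h3').trans pair2_one.symm)).2
      have h6 := congrFun (congrFun h5 0) 0
      have hYi : ((tG (sY : SL))⁻¹ : G3).val = (Ym : Matrix (Fin 3) (Fin 3) F) * Ym := by
        refine Units.inv_eq_of_mul_eq_one_right ?_
        rw [tG_val]
        exact CfsgLib.MaxSub.SLThree.Hess.Ym_cube
      rw [hYi, tG_val] at h6
      simp [hE0, sY, Ym, Matrix.mul_apply, Fin.sum_univ_three, Matrix.single_apply, Matrix.vecMul, dotProduct] at h6
      exact one_ne_zero (α := F) (by linear_combination h6 - h2)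
    · have h2 : (2 : F) ≠ 0 := fun e2 => by
        have hdv := (CharP.cast_eq_zero_iff F q 2).1 (by exact_mod_cast e2)
        exact hq2 ((Nat.prime_dvd_prime_iff_eq hp Nat.prime_two).1 hdv)
      let S : SL := ⟨Matrix.diagonal ![-1, -1, 1], by simp [Fin.prod_univ_three]⟩
      have hSU : tG S ∈ UG σ (Fin 3) := diag_UG (d := ![-1, -1, 1]) rfl fun i => by fin_cases i <;> simp
      exact sign_not_nz h h2 (A := tG S) rfl (nz_of_fu_norm h (hall _ (fu_UG.2 hSU) (fu_tG_det 0 S)))
  · set H := M.comap φ.toMonoidHom with hH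
    have inH : ∀ g : GT, g ∈ UG σ (Fin 2 → Fin 3) → g.val.det = 1 → g ∈ subgroupNormalizer (R0 h) → g ∈ H :=
      fun g hu hd hn => hM ⟨(hN g).2 hn, (hG g).2 ⟨hu, hd⟩⟩
    have N : HasU hF h H :=
      { det := fun g hg => ((hG g).1 (hMS hg)).2
        X := inH _ (g0U 0).1 (fu_tG_det _ _) pX
        Y := inH _ (g0U 0).2 (fu_tG_det _ _) pY
        f := inH _ (fu_UG.2 (gF_UG hF hp3 h)) (fu_tG_det _ _) pf'
        g := inH _ (fu_UG.2 (gG_UG hF hp3 h)) (fu_tG_det _ _) pg'
        t := inH _ (tau_UG hF) det_tau pt'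
        w := inH _ (Wq_UG hF hp3 h) (det_Wq h) pw
        r := inH _ (fu_UG.2 (rr_UG hF hp3 h)) (det_eq_one_of_fu (by rw [det_rr, h.cube]) 0) (rr_piece h)
        le := fun g hg => ((hG g).1 (hMS hg)).1 }
    have left : CentThree h H → OnlyJJ h →
        M = subgroupNormalizer ((R0 h).map φ.toMonoidHom) ⊓ (Cfsg.GU 9 F q ⊓ specialLinear (Fin 9) F) := by
      intro hC hJ
      refine le_antisymm (fun m hm => ⟨?_, hMS hm⟩) hM
      obtain ⟨g, rfl⟩ := φ.surjective m
      refine (hN g).2 ?_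
      have hg : g ∈ H := hm
      exact norm_R0 h
        (fun i => normalises_R0 N.toHasN hC hJ g hg _ (by fin_cases i <;> exact Subgroup.subset_closure (by simp)))
        (fun i => normalises_R0 N.toHasN hC hJ g hg _ (by fin_cases i <;> exact Subgroup.subset_closure (by simp)))
    have right : (∀ g : GT, g ∈ UG σ (Fin 2 → Fin 3) → g.val.det = 1 → g ∈ H) →
        M = Cfsg.GU 9 F q ⊓ specialLinear (Fin 9) F := by
      intro htop
      refine le_antisymm hMS fun m hm => ?_
      obtain ⟨g, rfl⟩ := φ.surjective m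
      obtain ⟨hu, hd⟩ := (hG g).1 hm
      exact htop g hu hd
    by_cases hq2 : q = 2
    · subst hq2
      have h2 := two_zero (hF := hF)
      rcases kernel_cases N h2 with hker | htv
      · exact Or.inl (left (centThree_two N h2 hker) (onlyJJ_char_two h h2))
      · exact Or.inr (right (top_of_tv N h2 htv))
    · have h2 : (2 : F) ≠ 0 := fun e2 => by
        have hdv := (CharP.cast_eq_zero_iff F q 2).1 (by exact_mod_cast e2)
        exact hq2 ((Nat.prime_dvd_prime_iff_eq hp Nat.prime_two).1 hdv)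
      have hd : Dich hF h := by
        have := hp.two_le
        rcases (show q = 5 ∨ 5 < q by omega) with rfl | h5
        · exact dich_five h
        · exact dich_large hp3 h5 h
      by_cases hb : NotBig h H
      · exact Or.inl (left (centThree_odd N hb hd hq2) (onlyJJ_of_two h h2))
      · exact Or.inr (right (top_of_big N hd (by have := hp.two_le; omega) hb))

end CfsgLib.MaxSub.SUNine
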